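import Cfsg.Agent.Lib.FusionAbelianIndex.Upper
import Cfsg.Agent.Lib.Solvable.Basic

/-
# The dichotomy for centric radical subgroups
-/

namespace Cfsg.Agent.FusionAbelianIndex

open Cfsg Cfsg.FusionSystem Cfsg.Agent Cfsg.Agent.Fusion

variable {Ω : Type*} [Group Ω] {S A P : Subgroup Ω} {F : FusionSystem S} {p : ℕ} [Finite S] [Fact p.Prime]

theorem index_sup_of_card {A Z R : Subgroup Ω} [Finite A] (hZ : Z ≤ A) (hR : R ≤ A)
    (hc : ∀ a ∈ A, ∀ b ∈ A, a * b = b * a) (hA : Nat.card A = Nat.card Z * Nat.card R)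
    (hp : Nat.card ↥(Z ⊓ R) = p) : ((Z ⊔ R).subgroupOf A).index = p := by
  have : (R.subgroupOf A).Normal := ⟨fun b hb a => by
    have e : a * b * a⁻¹ = b := by
      rw [show a * b = b * a from Subtype.ext (hc a a.2 b b.2), mul_inv_cancel_right]
    rwa [e]⟩
  have h1 := Cfsg.Agent.Solvable.card_sup_mul_card_inf (Z.subgroupOf A) (R.subgroupOf A)
  rw [← Subgroup.subgroupOf_sup hZ hR, show Z.subgroupOf A ⊓ R.subgroupOf A = (Z ⊓ R).subgroupOf A from rfl,
    Nat.card_congr (Subgroup.subgroupOfEquivOfLe (inf_le_left.trans hZ : Z ⊓ R ≤ A)).toEquiv, hp,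
    Nat.card_congr (Subgroup.subgroupOfEquivOfLe hZ).toEquiv,
    Nat.card_congr (Subgroup.subgroupOfEquivOfLe hR).toEquiv, ← hA,
    ← ((Z ⊔ R).subgroupOf A).card_mul_index] at h1
  exact (Nat.eq_of_mul_eq_mul_left Nat.card_pos h1).symm

theorem zpowers_sup_comm {Q : Subgroup Ω} {x : Ω} (h : ∀ z ∈ Q, x * z = z * x) :
    ∀ z ∈ Q ⊔ Subgroup.zpowers x, x * z = z * x := by
  have : Q ⊔ Subgroup.zpowers x ≤ Subgroup.centralizer {x} := sup_le
    (fun z hz => Subgroup.mem_centralizer_singleton_iff.2 (h z hz).symm)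
    (Subgroup.zpowers_le.2 (Subgroup.mem_centralizer_singleton_iff.2 rfl))
  exact fun z hz => (Subgroup.mem_centralizer_singleton_iff.1 (this hz)).symm

/-- Every centric radical subgroup other than `A` is of abelian type or of nonabelian type. -/
theorem Rad.analysis (r : Rad F p P) (hF : F.IsSaturated p) (c : Ctx S A p) (hna : ¬ IsMulCommutative S)
    (hne : P ≠ A) :
    ∃ x, ∃ hxP : x ∈ P, x ∉ A ∧
      (P = Zs S ⊔ Subgroup.zpowers x ∨ P = c.W2 (r.lt.le hxP) ⊔ Subgroup.zpowers x) ∧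
      Nat.card (c.W2 (r.lt.le hxP)) = p * Nat.card (Zs S) ∧
      Nat.card ↥(Zs S ⊓ c.R (r.lt.le hxP)) = p ∧ (P.subgroupOf (normalizerIn S P)).index = p := by
  obtain ⟨x, hxP, hxA⟩ := r.exists_outside c hne
  refine ⟨x, hxP, hxA, ?_⟩
  by_cases hcm : ∀ a ∈ P ⊓ A, x * a = a * x
  · let b : AbRad F c P x := ⟨r, hna, hxP, hxA, hcm, hF⟩
    obtain ⟨h1, h2, h3⟩ := b.facts
    refine ⟨Or.inl ?_, h1, h2, h3⟩
    rw [← b.inf_eq]
    exact r.eq_sup c hxP hxA
  · obtain ⟨hW, hcard⟩ := r.nonabelian c hna hxP hxA hcm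
    have hW' : Nat.card (c.W2 (r.lt.le hxP)) = p * Nat.card (Zs S) := by rw [← hW, hcard]
    refine ⟨Or.inr ?_, hW', ?_, r.nonabelian_index c hna hxP hxA hcm⟩
    · rw [← hW]
      exact r.eq_sup c hxP hxA
    · rw [c.card_W2 hna (r.lt.le hxP) hxA, mul_comm p] at hW'
      haveI : Finite (Zs S) := finite_of_le (FusionAbelianIndex.Zs_le S)
      exact Nat.eq_of_mul_eq_mul_left Nat.card_pos hW'

theorem Rad.of_essential (hS : IsPGroup p S) {F : FusionSystem S} (hF : F.IsSaturated p)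
    (hP : F.IsEssential p P) : Rad F p P := by
  refine ⟨hP.1, radical_of_essential hS hP, hP.2.1, lt_of_le_of_ne hP.1.1 ?_⟩
  rintro rfl
  obtain ⟨-, R, hR⟩ := fullyAutomized_of_fullyNormalized hS hF hP.2.1
  obtain ⟨-, -, hN, H, hH⟩ := hP
  have := finite_mulAut (S := P) (P := P) le_rfl
  have hd := ((StrongPEmb.isStronglyPEmbedded_iff_forall H).mp hH).1
  have heq : autInducedBy P P = Cfsg.Inn P := by
    refine le_antisymm (fun α hα => ?_) (inn_le_autInducedBy le_rfl)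
    obtain ⟨g, hg, e⟩ := mem_autInducedBy_iff.1 hα
    exact ⟨⟨g, hg⟩, MulEquiv.ext fun x => Subtype.ext (e x).symm⟩
  rw [heq] at hR
  rw [← Subgroup.index_eq_card, ← hR] at hd
  exact R.not_dvd_index hd

end Cfsg.Agent.FusionAbelianIndex
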