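import Cfsg.Agent.Lib.Fusion.Saturation
import Cfsg.Agent.Lib.PGroup.Basic

/-
# p-groups with an abelian subgroup of index p
-/

namespace Cfsg.Agent.FusionAbelianIndex

open Cfsg Cfsg.FusionSystem Cfsg.Agent Cfsg.Agent.Fusion
open scoped commutatorElement

/-- The iterated kernels of an endomorphism. -/
def Ker {M : Type*} [Group M] (f : M →* M) : ℕ → Subgroup M
  | 0 => ⊥
  | k + 1 => (Ker f k).comap f

theorem mem_ker_iff {M : Type*} [Group M] (f : M →* M) {a : M} :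
    ∀ {k : ℕ}, a ∈ Ker f k ↔ f^[k] a = 1 := by
  intro k
  induction k generalizing a with
  | zero => exact Subgroup.mem_bot
  | succ j ih => rw [Function.iterate_succ_apply]; exact ih

theorem card_comap {M N : Type*} [Group M] [Group N] [Finite M] (f : M →* N) (H : Subgroup N) :
    Nat.card (H.comap f) = Nat.card f.ker * Nat.card ↥(H ⊓ f.range) := by
  have hr : (f.comp (H.comap f).subtype).range = H ⊓ f.range := by
    rw [MonoidHom.range_comp, Subgroup.range_subtype, Subgroup.map_comap_eq, inf_comm]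
  rw [← (f.comp (H.comap f).subtype).ker.card_mul_index, Subgroup.index_ker, hr]
  congr 1
  have hle : f.ker ≤ H.comap f := fun a ha => by
    rw [Subgroup.mem_comap, MonoidHom.mem_ker.1 ha]
    exact H.one_mem
  exact Nat.card_congr (Subgroup.subgroupOfEquivOfLe hle).toEquiv

theorem card_ker_inf_range_le {M : Type*} [Group M] [Finite M] (f : M →* M) :
    ∀ k, Nat.card ↥(Ker f k ⊓ f.range) ≤ Nat.card ↥(f.ker ⊓ f.range) ^ k := by
  intro k
  induction k with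
  | zero => rw [pow_zero, Ker, bot_inf_eq, Subgroup.card_bot]
  | succ j ih =>
    let ψ : ↥(Ker f (j + 1) ⊓ f.range) →* M := f.comp (Subgroup.subtype _)
    have h1 : Nat.card ψ.ker ≤ Nat.card ↥(f.ker ⊓ f.range) := by
      refine Nat.card_le_card_of_injective
        (fun a => ⟨((a : ↥(Ker f (j + 1) ⊓ f.range)) : M), a.2, a.1.2.2⟩) fun a b h => ?_
      have h' : ((a : ↥(Ker f (j + 1) ⊓ f.range)) : M) = ((b : ↥(Ker f (j + 1) ⊓ f.range)) : M) :=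
        congrArg (fun z : ↥(f.ker ⊓ f.range) => (z : M)) h
      exact Subtype.ext (Subtype.ext h')
    have h2 : Nat.card ψ.range ≤ Nat.card ↥(Ker f j ⊓ f.range) := by
      refine Subgroup.card_le_of_le ?_
      rintro _ ⟨a, rfl⟩
      exact ⟨a.2.1, a.1, rfl⟩
    rw [← ψ.ker.card_mul_index, Subgroup.index_ker, pow_succ, mul_comm]
    exact Nat.mul_le_mul (h2.trans ih) h1

variable {Ω : Type*} [Group Ω]

/-- The centre of `S` as a subgroup of the ambient group. -/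
def Zs (S : Subgroup Ω) : Subgroup Ω := S ⊓ Subgroup.centralizer (S : Set Ω)

theorem mem_Zs {S : Subgroup Ω} {z : Ω} : z ∈ Zs S ↔ z ∈ S ∧ ∀ s ∈ S, s * z = z * s :=
  and_congr_right fun _ => Subgroup.mem_centralizer_iff

theorem Zs_le (S : Subgroup Ω) : Zs S ≤ S := inf_le_left

/-- An abelian subgroup of index `p`. -/
structure Ctx (S A : Subgroup Ω) (p : ℕ) : Prop where
  le : A ≤ S
  comm : ∀ a ∈ A, ∀ b ∈ A, a * b = b * a
  index : (A.subgroupOf S).index = p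
  pgroup : IsPGroup p S

variable {S A : Subgroup Ω} {p : ℕ} [Finite S] [Fact p.Prime]

theorem Ctx.normal (c : Ctx S A p) : (A.subgroupOf S).Normal := by
  refine Subgroup.normal_of_index_eq_minFac_card ?_
  obtain ⟨n, hn⟩ := IsPGroup.iff_card.1 c.pgroup
  rw [c.index, hn, Nat.pow_minFac]
  · exact ((Fact.out : p.Prime).minFac_eq).symm
  · rintro rfl
    have h := (A.subgroupOf S).card_mul_index
    rw [hn, pow_zero, c.index] at h
    exact (Fact.out : p.Prime).ne_one (Nat.eq_one_of_mul_eq_one_left h)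

theorem Ctx.conj_mem (c : Ctx S A p) {s a : Ω} (hs : s ∈ S) (ha : a ∈ A) : s * a * s⁻¹ ∈ A :=
  c.normal.conj_mem ⟨a, c.le ha⟩ ha ⟨s, hs⟩

theorem Ctx.exists_mul (c : Ctx S A p) {x : Ω} (hx : x ∈ S) (hxA : x ∉ A) {s : Ω} (hs : s ∈ S) :
    ∃ a ∈ A, ∃ i : ℤ, s = a * x ^ i := by
  haveI := c.normal
  have hx' : (QuotientGroup.mk (⟨x, hx⟩ : S) : S ⧸ A.subgroupOf S) ≠ 1 := fun h =>
    hxA (show (⟨x, hx⟩ : S) ∈ A.subgroupOf S from (QuotientGroup.eq_one_iff _).1 h)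
  obtain ⟨i, hi⟩ := Subgroup.mem_zpowers_iff.1 (mem_zpowers_of_prime_card
    (show Nat.card (S ⧸ A.subgroupOf S) = p from c.index) hx' (g' := QuotientGroup.mk (⟨s, hs⟩ : S)))
  refine ⟨s * (x ^ i)⁻¹, ?_, i, by group⟩
  have h1 : (⟨s, hs⟩ * (⟨x, hx⟩ ^ i)⁻¹ : S) ∈ A.subgroupOf S := by
    refine (QuotientGroup.eq_one_iff _).1 ?_
    rw [QuotientGroup.mk_mul, QuotientGroup.mk_inv, QuotientGroup.mk_zpow, hi, mul_inv_cancel]
  exact h1

theorem Ctx.card_inf (c : Ctx S A p) {X : Subgroup Ω} (hX : X ≤ S) {x : Ω} (hx : x ∈ X) (hxA : x ∉ A) :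
    Nat.card X = p * Nat.card ↥(X ⊓ A) := by
  haveI := c.normal
  let q : X →* S ⧸ A.subgroupOf S := (QuotientGroup.mk' _).comp (Subgroup.inclusion hX)
  have hker : q.ker = (X ⊓ A).subgroupOf X := by
    ext u
    rw [MonoidHom.mem_ker, Subgroup.mem_subgroupOf]
    exact ⟨fun h => ⟨u.2, Subgroup.mem_subgroupOf.1 ((QuotientGroup.eq_one_iff (Subgroup.inclusion hX u)).1 h)⟩,
      fun h => (QuotientGroup.eq_one_iff (Subgroup.inclusion hX u)).2 (Subgroup.mem_subgroupOf.2 h.2)⟩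
  have hsur : q.range = ⊤ := by
    refine eq_top_iff.2 fun y _ => ?_
    obtain ⟨s, rfl⟩ := QuotientGroup.mk'_surjective _ y
    obtain ⟨a, ha, i, hs⟩ := c.exists_mul (hX hx) hxA s.2
    refine ⟨⟨x, hx⟩ ^ i, ?_⟩
    show QuotientGroup.mk (Subgroup.inclusion hX (⟨x, hx⟩ ^ i)) = QuotientGroup.mk s
    refine QuotientGroup.eq.2 (Subgroup.mem_subgroupOf.2 ?_)
    show ((x ^ i)⁻¹ * (s : Ω)) ∈ A
    rw [hs, ← mul_assoc]
    simpa using c.conj_mem (S.inv_mem (S.zpow_mem (hX hx) i)) ha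
  rw [← q.ker.card_mul_index, Subgroup.index_ker, hsur, Subgroup.card_top, ← Subgroup.index_eq_card, c.index,
    hker, mul_comm, Nat.card_congr (Subgroup.subgroupOfEquivOfLe inf_le_left).toEquiv]

theorem Ctx.Zs_le (c : Ctx S A p) (hna : ¬ IsMulCommutative S) : Zs S ≤ A := by
  intro z hz
  obtain ⟨hzS, hzc⟩ := mem_Zs.1 hz
  by_contra hzA
  refine hna ⟨⟨fun s t => Subtype.ext ?_⟩⟩
  obtain ⟨a, ha, i, e1⟩ := c.exists_mul hzS hzA s.2
  obtain ⟨b, hb, j, e2⟩ := c.exists_mul hzS hzA t.2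
  show (s : Ω) * t = t * s
  rw [e1, e2]
  have h1 : ∀ k : ℤ, ∀ u ∈ S, Commute (z ^ k) u := fun k u hu => Commute.zpow_left (hzc u hu).symm k
  have h2 : Commute a b := c.comm a ha b hb
  have h3 : Commute (a * z ^ i) (b * z ^ j) :=
    (h2.mul_right (h1 j a (c.le ha)).symm).mul_left
      ((h1 i b (c.le hb)).mul_right (h1 i _ (S.zpow_mem hzS j)))
  exact h3

/-- The displacement `a ↦ a⁻¹ x a x⁻¹` on `A`. -/
def Ctx.d (c : Ctx S A p) {x : Ω} (hx : x ∈ S) : A →* A :=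
  MonoidHom.mk' (fun a => ⟨(a : Ω)⁻¹ * (x * a * x⁻¹), A.mul_mem (A.inv_mem a.2) (c.conj_mem hx a.2)⟩)
    fun a b => Subtype.ext (by
      show ((a : Ω) * b)⁻¹ * (x * ((a : Ω) * b) * x⁻¹) =
        (a : Ω)⁻¹ * (x * a * x⁻¹) * ((b : Ω)⁻¹ * (x * b * x⁻¹))
      have h1 := c.comm _ (A.inv_mem b.2) _ (A.mul_mem (A.inv_mem a.2) (c.conj_mem hx a.2))
      calc ((a : Ω) * b)⁻¹ * (x * ((a : Ω) * b) * x⁻¹)
          = (b : Ω)⁻¹ * ((a : Ω)⁻¹ * (x * a * x⁻¹)) * (x * b * x⁻¹) := by group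
        _ = (a : Ω)⁻¹ * (x * a * x⁻¹) * (b : Ω)⁻¹ * (x * b * x⁻¹) := by rw [h1]
        _ = _ := by group)

@[simp] theorem Ctx.d_apply (c : Ctx S A p) {x : Ω} (hx : x ∈ S) (a : A) :
    ((c.d hx a : A) : Ω) = (a : Ω)⁻¹ * (x * a * x⁻¹) := rfl

theorem Ctx.d_eq_one (c : Ctx S A p) {x : Ω} (hx : x ∈ S) {a : A} :
    c.d hx a = 1 ↔ x * a = a * x := by
  rw [Subtype.ext_iff, c.d_apply, Subgroup.coe_one, inv_mul_eq_one, eq_mul_inv_iff_mul_eq, eq_comm]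

theorem Ctx.ker_d (c : Ctx S A p) (hna : ¬ IsMulCommutative S) {x : Ω} (hx : x ∈ S) (hxA : x ∉ A) :
    (c.d hx).ker = (Zs S).subgroupOf A := by
  have := hna
  ext a
  rw [MonoidHom.mem_ker, c.d_eq_one, Subgroup.mem_subgroupOf, mem_Zs]
  refine ⟨fun h => ⟨c.le a.2, fun s hs => ?_⟩, fun h => h.2 x hx⟩
  obtain ⟨b, hb, i, rfl⟩ := c.exists_mul hx hxA hs
  exact ((show Commute b (a : Ω) from c.comm b hb a a.2).mul_left ((show Commute x (a : Ω) from h).zpow_left i))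

/-- The image of the displacement, inside the ambient group. -/
def Ctx.R (c : Ctx S A p) {x : Ω} (hx : x ∈ S) : Subgroup Ω := (c.d hx).range.map A.subtype

theorem Ctx.R_le (c : Ctx S A p) {x : Ω} (hx : x ∈ S) : c.R hx ≤ A := Subgroup.map_subtype_le _

theorem Ctx.R_eq_commutator (c : Ctx S A p) {x : Ω} (hx : x ∈ S) (hxA : x ∉ A) :
    c.R hx = (commutator S).map S.subtype := by
  refine le_antisymm ?_ ?_
  · rintro _ ⟨_, ⟨a, rfl⟩, rfl⟩
    exact ⟨⁅(⟨a, c.le a.2⟩ : S)⁻¹, ⟨x, hx⟩⁆,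
      Subgroup.commutator_mem_commutator (Subgroup.mem_top _) (Subgroup.mem_top _),
      by simp [commutatorElement_def, mul_assoc]⟩
  -- modulo the image everything commutes
  let N : Subgroup S := (c.R hx).subgroupOf S
  have hxR : ∀ r ∈ c.R hx, x * r * x⁻¹ ∈ c.R hx := by
    rintro _ ⟨_, ⟨a, rfl⟩, rfl⟩
    refine ⟨_, ⟨⟨x * a * x⁻¹, c.conj_mem hx a.2⟩, rfl⟩, ?_⟩
    show (x * (a : Ω) * x⁻¹)⁻¹ * (x * (x * a * x⁻¹) * x⁻¹) = x * ((a : Ω)⁻¹ * (x * a * x⁻¹)) * x⁻¹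
    group
  have hN : N.Normal := by
    refine ⟨fun r hr s => Subgroup.mem_subgroupOf.2 ?_⟩
    obtain ⟨b, hb, i, hs⟩ := c.exists_mul hx hxA s.2
    have hfin := finite_of_le ((c.R_le hx).trans c.le)
    have hi : x ^ i ∈ normalizerIn S (c.R hx) :=
      (normalizerIn S (c.R hx)).zpow_mem (mem_normalizerIn_of_conj hx hxR) i
    have h1 := normalizerIn_conj hi (Subgroup.mem_subgroupOf.1 hr)
    show (s : Ω) * r * (s : Ω)⁻¹ ∈ c.R hx
    rw [hs]
    have h2 := c.comm b hb _ (c.R_le hx h1)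
    have e : b * x ^ i * r * (b * x ^ i)⁻¹ = x ^ i * r * (x ^ i)⁻¹ := by
      calc b * x ^ i * r * (b * x ^ i)⁻¹ = b * (x ^ i * r * (x ^ i)⁻¹) * b⁻¹ := by group
        _ = _ := by rw [h2, mul_inv_cancel_right]
    rw [e]
    exact h1
  let q := QuotientGroup.mk' N
  have hax : ∀ a : A, Commute (q ⟨x, hx⟩) (q ⟨a, c.le a.2⟩) := fun a => by
    show _ = _
    rw [← map_mul, ← map_mul]
    refine (QuotientGroup.eq.2 (Subgroup.mem_subgroupOf.2 ?_)).symm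
    have h1 := hxR _ (⟨_, ⟨a, rfl⟩, rfl⟩ : (a : Ω)⁻¹ * (x * a * x⁻¹) ∈ c.R hx)
    have hfin := finite_of_le ((c.R_le hx).trans c.le)
    have h2 := normalizerIn_conj_inv (mem_normalizerIn_of_conj hx hxR)
      (⟨_, ⟨a, rfl⟩, rfl⟩ : (a : Ω)⁻¹ * (x * a * x⁻¹) ∈ c.R hx)
    show (((⟨a, c.le a.2⟩ : S) * ⟨x, hx⟩)⁻¹ * (⟨x, hx⟩ * ⟨a, c.le a.2⟩) : S).1 ∈ c.R hx
    convert h2 using 1
    simp [mul_assoc]
  have hall : ∀ s t : S, Commute (q s) (q t) := by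
    intro s t
    obtain ⟨a, ha, i, hs⟩ := c.exists_mul hx hxA s.2
    obtain ⟨b, hb, j, ht⟩ := c.exists_mul hx hxA t.2
    have es : s = ⟨a, c.le ha⟩ * ⟨x, hx⟩ ^ i := Subtype.ext hs
    have et : t = ⟨b, c.le hb⟩ * ⟨x, hx⟩ ^ j := Subtype.ext ht
    rw [es, et, map_mul, map_mul, map_zpow, map_zpow]
    have hab : Commute (q ⟨a, c.le ha⟩) (q ⟨b, c.le hb⟩) :=
      (show Commute (⟨a, c.le ha⟩ : S) ⟨b, c.le hb⟩ from Subtype.ext (c.comm a ha b hb)).map q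
    exact (hab.mul_right ((hax ⟨a, ha⟩).symm.zpow_right j)).mul_left
      (((hax ⟨b, hb⟩).zpow_left i).mul_right ((Commute.refl _).zpow_zpow i j))
  have hle : commutator S ≤ N := by
    rw [commutator_eq_closure, Subgroup.closure_le]
    rintro _ ⟨s, t, rfl⟩
    refine (QuotientGroup.eq_one_iff _).1 ?_
    show q ⁅s, t⁆ = 1
    rw [map_commutatorElement, commutatorElement_eq_one_iff_commute]
    exact hall s t
  rintro _ ⟨y, hy, rfl⟩
  exact hle hy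

/-- The elements of `A` displaced into the centre. -/
def Ctx.W2 (c : Ctx S A p) {x : Ω} (hx : x ∈ S) : Subgroup Ω :=
  (((Zs S).subgroupOf A).comap (c.d hx)).map A.subtype

theorem Ctx.mem_W2 (c : Ctx S A p) {x : Ω} (hx : x ∈ S) {a : Ω} :
    a ∈ c.W2 hx ↔ a ∈ A ∧ a⁻¹ * (x * a * x⁻¹) ∈ Zs S :=
  ⟨by rintro ⟨b, hb, rfl⟩; exact ⟨b.2, hb⟩, fun ⟨h1, h2⟩ => ⟨⟨a, h1⟩, h2, rfl⟩⟩

theorem Ctx.card_W2 (c : Ctx S A p) (hna : ¬ IsMulCommutative S) {x : Ω} (hx : x ∈ S) (hxA : x ∉ A) :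
    Nat.card (c.W2 hx) = Nat.card (Zs S) * Nat.card ↥(Zs S ⊓ c.R hx) := by
  haveI := finite_of_le c.le
  have h1 : Nat.card (c.W2 hx) = Nat.card (((Zs S).subgroupOf A).comap (c.d hx)) :=
    Subgroup.card_map_of_injective A.subtype_injective
  rw [h1, card_comap, c.ker_d hna hx hxA, Nat.card_congr (Subgroup.subgroupOfEquivOfLe (c.Zs_le hna)).toEquiv,
    ← Subgroup.card_map_of_injective A.subtype_injective (K := ((Zs S).subgroupOf A) ⊓ (c.d hx).range),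
    Subgroup.map_inf _ _ _ A.subtype_injective, Subgroup.map_subgroupOf_eq_of_le (c.Zs_le hna)]
  rfl

end Cfsg.Agent.FusionAbelianIndex
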