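import Cfsg.Agent.Lib.FusionAbelianIndex.CentreIndex

/-
# Centre of index p², odd p
-/

namespace Cfsg.Agent.FusionAbelianIndex

open Cfsg Cfsg.FusionSystem Cfsg.Agent Cfsg.Agent.Fusion Cfsg.Agent.FusionChain Cfsg.Agent.FusionSparse
open scoped commutatorElement

variable {Ω : Type*} [Group Ω] {S A P : Subgroup Ω} {F : FusionSystem S} {p : ℕ} [Finite S] [Fact p.Prime]

theorem pow_mul_of_class_two (hp : p ≠ 2) {Z : Subgroup Ω} (hZ : ∀ z ∈ Z, z ^ p = 1) {a b : Ω}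
    (hc : ⁅b, a⁆ ∈ Z) (ha : Commute a ⁅b, a⁆) (hb : Commute b ⁅b, a⁆) :
    (a * b) ^ p = a ^ p * b ^ p := by
  rw [PGroup.mul_pow_eq ha hb p]
  obtain ⟨k, hk⟩ := (Fact.out : p.Prime).dvd_choose_self two_ne_zero
    (lt_of_le_of_ne (Fact.out : p.Prime).two_le (Ne.symm hp))
  rw [hk, pow_mul, hZ _ hc, one_pow, one_mul]

theorem Sq.center_order (q : Sq S p) (hp : p ≠ 2) (hF : F.IsSaturated p) (hcore : F.core = ⊥) :
    Nat.card (Zs S) = p := by
  obtain ⟨P, r⟩ := q.exists_radical hF hcore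
  obtain ⟨A, c, x, b⟩ := q.exists_abRad hF r
  obtain ⟨γ, hγ, z₀, hz₀, hmove⟩ := b.exists_moving
  have hDS : fixedPart S γ ≤ S := inf_le_left.trans (FusionAbelianIndex.Zs_le S)
  have hD : fixedPart S γ = ⊥ := by
    refine eq_bot_of_normal hcore (isNormal_of_radicals q.pgroup hF hDS fun R hfn hc hr => ?_)
    by_cases hRS : R = S
    · subst hRS
      exact ⟨hDS, fun α hα d hd => b.fixedPart_invariant_of hp hγ hz₀ hmove le_rfl
        (FusionAbelianIndex.Zs_le _) hα (fun z hz => autFn_mem_Zs hα hz) hd⟩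
    have r₁ : Rad F p R := ⟨hc, hr, hfn, lt_of_le_of_ne hc.1 hRS⟩
    obtain ⟨A₁, c₁, x₁, b₁⟩ := q.exists_abRad hF r₁
    exact ⟨inf_le_left.trans r₁.zs_le, fun α hα d hd =>
      b.fixedPart_invariant_ab hp hγ hz₀ hmove b₁ hα hd⟩
  exact (b.zs_le_commutator hγ hz₀ hmove hD).2

theorem AbRad.pow_eq_one {c : Ctx S A p} {x : Ω} (b : AbRad F c P x) (hZ : Nat.card (Zs S) = p) {y : Ω}
    (hy : y ∈ P) : y ^ p = 1 := by
  obtain ⟨γ, hγ, z₀, hz₀, hmove⟩ := b.exists_moving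
  haveI : Finite (Zs S) := finite_of_le (FusionAbelianIndex.Zs_le S)
  have hpow : ∀ z ∈ Zs S, z ^ p = 1 := fun z hz => by
    have := pow_card_eq_one' (x := (⟨z, hz⟩ : Zs S))
    rw [hZ] at this
    exact congrArg Subtype.val this
  have hwP : autFn γ z₀ ∈ P := autFn_mem γ (b.rad.zs_le hz₀)
  have hwA : autFn γ z₀ ∉ A := fun h => hmove (b.inf_eq ▸ ⟨hwP, h⟩)
  have hw : (autFn γ z₀) ^ p = 1 := by
    have hm := (isIso_autFn b.rad.lt.le hγ).1
    have key : ∀ n : ℕ, autFn γ (z₀ ^ n) = (autFn γ z₀) ^ n := by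
      intro n
      induction n with
      | zero => rw [pow_zero, pow_zero, hm.map_one]
      | succ m ih => rw [pow_succ, pow_succ, hm.map_mul (P.pow_mem (b.rad.zs_le hz₀) m) (b.rad.zs_le hz₀), ih]
    rw [← key, hpow _ hz₀, hm.map_one]
  let E : Subgroup Ω :=
    { carrier := {y | y ∈ P ∧ y ^ p = 1}
      one_mem' := ⟨one_mem _, one_pow p⟩
      mul_mem' := fun {u v} hu hv => ⟨mul_mem hu.1 hv.1, by
        rw [(show Commute u v from b.comm u hu.1 v hv.1).mul_pow, hu.2, hv.2, one_mul]⟩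
      inv_mem' := fun {u} hu => ⟨inv_mem hu.1, by rw [inv_pow, hu.2, inv_one]⟩ }
  have hPE : P ≤ E := by
    conv_lhs => rw [b.rad.eq_sup c hwP hwA, b.inf_eq]
    exact sup_le (fun z hz => ⟨b.rad.zs_le hz, hpow z hz⟩) (Subgroup.zpowers_le.2 ⟨hwP, hw⟩)
  exact (hPE hy).2

/-- The exponent is `p`. -/
theorem Sq.exponent (q : Sq S p) (hp : p ≠ 2) (hF : F.IsSaturated p) (hcore : F.core = ⊥) :
    Monoid.exponent S = p := by
  have hZ := q.center_order hp hF hcore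
  haveI : Finite (Zs S) := finite_of_le (FusionAbelianIndex.Zs_le S)
  have hpow : ∀ z ∈ Zs S, z ^ p = 1 := fun z hz => by
    have := pow_card_eq_one' (x := (⟨z, hz⟩ : Zs S))
    rw [hZ] at this
    exact congrArg Subtype.val this
  have hcomm : ∀ u ∈ S, ∀ v ∈ S, ⁅u, v⁆ ∈ Zs S := fun u hu v hv =>
    q.commutator_le ⟨⁅(⟨u, hu⟩ : S), ⟨v, hv⟩⁆,
      Subgroup.commutator_mem_commutator (Subgroup.mem_top _) (Subgroup.mem_top _), by simp [commutatorElement_def]⟩
  let E : Subgroup Ω :=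
    { carrier := {y | y ∈ S ∧ y ^ p = 1}
      one_mem' := ⟨one_mem _, one_pow p⟩
      mul_mem' := fun {u v} hu hv => ⟨mul_mem hu.1 hv.1, by
        have h := hcomm v hv.1 u hu.1
        rw [pow_mul_of_class_two hp hpow h ((mem_Zs.1 h).2 u hu.1) ((mem_Zs.1 h).2 v hv.1), hu.2, hv.2, one_mul]⟩
      inv_mem' := fun {u} hu => ⟨inv_mem hu.1, by rw [inv_pow, hu.2, inv_one]⟩ }
  have hES : E ≤ S := fun u hu => hu.1
  obtain ⟨P, r⟩ := q.exists_radical hF hcore
  obtain ⟨A, c, x, b⟩ := q.exists_abRad hF r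
  have hPE : P ≤ E := fun y hy => ⟨r.lt.le hy, b.pow_eq_one hZ hy⟩
  have htop : E = S := by
    by_contra hne
    have hEP : ∀ R, Rad F p R → R = E := by
      intro R r₁
      obtain ⟨A₁, c₁, x₁, b₁⟩ := q.exists_abRad hF r₁
      have hle : R ≤ E := fun y hy => ⟨r₁.lt.le hy, b₁.pow_eq_one hZ hy⟩
      refine eq_of_le_of_card hES hle ?_
      have h := mul_card_le q.pgroup (lt_of_le_of_ne hES hne) le_rfl
      rw [q.card, pow_two, mul_assoc, ← b₁.card_P] at h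
      exact Nat.le_of_mul_le_mul_left h (Fact.out : p.Prime).pos
    have hEn : F.IsNormal E := by
      refine isNormal_of_radicals q.pgroup hF hES fun R hfn hc hr => ?_
      by_cases hRS : R = S
      · subst hRS
        refine ⟨hES, fun α hα y hy => ⟨autFn_mem α hy.1, ?_⟩⟩
        rw [autFn_apply α hy.1, ← SubgroupClass.coe_pow, ← map_pow,
          show (⟨y, hy.1⟩ : R) ^ p = 1 from Subtype.ext hy.2, map_one]
        rfl
      · obtain rfl := hEP R ⟨hc, hr, hfn, lt_of_le_of_ne hc.1 hRS⟩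
        exact ⟨le_rfl, fun α hα y hy => autFn_mem α hy⟩
    have hE := eq_bot_of_normal hcore hEn
    have := hPE b.hxP
    rw [hE, Subgroup.mem_bot] at this
    exact b.hxA (this ▸ one_mem _)
  have hdvd : Monoid.exponent S ∣ p :=
    Monoid.exponent_dvd_of_forall_pow_eq_one fun w => Subtype.ext (htop.ge w.2).2
  rcases (Nat.dvd_prime Fact.out).1 hdvd with h | h
  · exfalso
    have := Monoid.exp_eq_one_iff.1 h
    exact q.hna ⟨⟨fun u v => Subsingleton.elim _ _⟩⟩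
  · exact h

end Cfsg.Agent.FusionAbelianIndex
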