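import Cfsg.Agent.Lib.FusionAbelianIndex.TransvectionTwo

/-
# Centre of index 4
-/

namespace Cfsg.Agent.FusionAbelianIndex

open Cfsg Cfsg.FusionSystem Cfsg.Agent Cfsg.Agent.Fusion Cfsg.Agent.FusionChain Cfsg.Agent.FusionSparse
open scoped commutatorElement

variable {Ω : Type*} [Group Ω] {S A P : Subgroup Ω} {F : FusionSystem S} [Finite S] [Fact (Nat.Prime 2)]

/-- An elementary abelian subgroup of index 2 containing the centre. -/
structure El (S P : Subgroup Ω) : Prop where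
  le : P ≤ S
  zs : Zs S ≤ P
  card : Nat.card P = 2 * Nat.card (Zs S)
  sq : ∀ u ∈ P, u * u = 1

theorem Sq.zs_sq (q : Sq S 2) (hF : F.IsSaturated 2) (hcore : F.core = ⊥) :
    ∀ v ∈ Zs S, v * v = 1 := by
  have hZS := FusionAbelianIndex.Zs_le S
  have hcm : ∀ u ∈ Zs S, ∀ v ∈ Zs S, Commute u v := fun u hu v hv => (mem_Zs.1 hv).2 u (hZS hu)
  let Q : Subgroup Ω :=
    { carrier := {y | ∃ v ∈ Zs S, y = v * v}
      one_mem' := ⟨1, one_mem _, (one_mul 1).symm⟩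
      mul_mem' := by
        rintro _ _ ⟨u, hu, rfl⟩ ⟨v, hv, rfl⟩
        exact ⟨u * v, mul_mem hu hv, ((hcm u hu v hv).symm.mul_mul_mul_comm u v).symm⟩
      inv_mem' := by
        rintro _ ⟨u, hu, rfl⟩
        exact ⟨u⁻¹, inv_mem hu, mul_inv_rev u u⟩ }
  have hQZ : Q ≤ Zs S := by
    rintro _ ⟨u, hu, rfl⟩
    exact mul_mem hu hu
  have hQ : Q = ⊥ := by
    refine eq_bot_of_normal hcore (isNormal_of_radicals q.pgroup hF (hQZ.trans hZS) fun R hfn hc hr => ?_)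
    by_cases hRS : R = S
    · subst hRS
      refine ⟨hQZ.trans hZS, fun α hα y hy => ?_⟩
      obtain ⟨u, hu, rfl⟩ := hy
      exact ⟨autFn α u, autFn_mem_Zs hα hu, (isIso_autFn le_rfl hα).1.map_mul (hZS hu) (hZS hu)⟩
    have r : Rad F 2 R := ⟨hc, hr, hfn, lt_of_le_of_ne hc.1 hRS⟩
    refine ⟨hQZ.trans r.zs_le, fun α hα y hy => ?_⟩
    obtain ⟨u, hu, rfl⟩ := hy
    obtain ⟨A, c, x, b⟩ := q.exists_abRad hF r
    obtain ⟨γ, hγ, z₀, hz₀, hmove⟩ := b.exists_moving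
    obtain ⟨v, hv, e⟩ := b.sq_eq hγ hz₀ hmove (autFn_mem α (r.zs_le hu))
    exact ⟨v, hv, by rw [(isIso_autFn hc.1 hα).1.map_mul (r.zs_le hu) (r.zs_le hu), e]⟩
  intro v hv
  have h : v * v ∈ Q := ⟨v, hv, rfl⟩
  rwa [hQ, Subgroup.mem_bot] at h

theorem Sq.el (q : Sq S 2) (hF : F.IsSaturated 2) (hcore : F.core = ⊥) (r : Rad F 2 P) : El S P := by
  obtain ⟨A, c, x, b⟩ := q.exists_abRad hF r
  obtain ⟨γ, hγ, z₀, hz₀, hmove⟩ := b.exists_moving
  refine ⟨r.lt.le, r.zs_le, b.card_P, fun u hu => ?_⟩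
  obtain ⟨v, hv, e⟩ := b.sq_eq hγ hz₀ hmove hu
  rw [e, q.zs_sq hF hcore v hv]

theorem Sq.eq_of_sup (q : Sq S 2) {P : Subgroup Ω} (hP : El S P) {u : Ω} (hu : u ∈ P) (huZ : u ∉ Zs S) :
    Zs S ⊔ Subgroup.zpowers u = P := by
  obtain ⟨-, hcard⟩ := q.ctx (hP.le hu) huZ
  exact eq_of_le_of_card hP.le (sup_le hP.zs (Subgroup.zpowers_le.2 hu)) (by rw [hcard, hP.card])

theorem Sq.index_el (q : Sq S 2) (hP : El S P) : (P.subgroupOf S).index = 2 := by
  have h := (P.subgroupOf S).card_mul_index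
  rw [Nat.card_congr (Subgroup.subgroupOfEquivOfLe hP.le).toEquiv, hP.card, q.card, pow_two,
    mul_assoc 2 2, mul_comm 2 (2 * Nat.card (Zs S))] at h
  haveI : Finite (Zs S) := finite_of_le (FusionAbelianIndex.Zs_le S)
  exact Nat.eq_of_mul_eq_mul_left (Nat.mul_pos two_pos Nat.card_pos) h

theorem Sq.not_three (q : Sq S 2) {P₁ P₂ P₃ : Subgroup Ω} (h1 : El S P₁) (h2 : El S P₂) (h3 : El S P₃)
    (h12 : P₁ ≠ P₂) (h13 : P₁ ≠ P₃) (h23 : P₂ ≠ P₃) : False := by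
  obtain ⟨u, hu, hu1⟩ : ∃ u ∈ P₂, u ∉ P₁ := by
    by_contra hne
    push Not at hne
    exact h12 (eq_of_le_of_card h1.le hne (by rw [h1.card, h2.card])).symm
  obtain ⟨v, hv, hv1⟩ : ∃ v ∈ P₃, v ∉ P₁ := by
    by_contra hne
    push Not at hne
    exact h13 (eq_of_le_of_card h1.le hne (by rw [h1.card, h3.card])).symm
  have huv : u * v ∈ P₁ := (Subgroup.mul_mem_iff_of_index_two (q.index_el h1)
    (a := ⟨u, h2.le hu⟩) (b := ⟨v, h3.le hv⟩)).2
    ⟨fun h => absurd (Subgroup.mem_subgroupOf.1 h) hu1, fun h => absurd (Subgroup.mem_subgroupOf.1 h) hv1⟩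
  have hiu : u⁻¹ = u := inv_eq_of_mul_eq_one_right (h2.sq u hu)
  have hiv : v⁻¹ = v := inv_eq_of_mul_eq_one_right (h3.sq v hv)
  have hc : v * u = u * v := by
    have := inv_eq_of_mul_eq_one_right (h1.sq _ huv)
    rwa [mul_inv_rev, hiu, hiv] at this
  have huZ : u ∉ Zs S := fun h => hu1 (h1.zs h)
  have hvZ : v ∉ Zs S := fun h => hv1 (h1.zs h)
  have hv2 : v ∉ P₂ := fun h => h23 ((q.eq_of_sup h2 h hvZ).symm.trans (q.eq_of_sup h3 hv hvZ))
  have htop : P₂ ⊔ Subgroup.zpowers v = S := by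
    have hle : P₂ ⊔ Subgroup.zpowers v ≤ S := sup_le h2.le (Subgroup.zpowers_le.2 (h3.le hv))
    refine eq_of_le_of_card le_rfl hle ?_
    have h := mul_card_le q.pgroup (left_lt_sup.2 fun hh => hv2 (hh (Subgroup.mem_zpowers v)) :
      P₂ < P₂ ⊔ Subgroup.zpowers v) hle
    rwa [h2.card, ← mul_assoc, ← pow_two, ← q.card] at h
  have hle : S ≤ Subgroup.centralizer {u} := by
    conv_lhs => rw [← htop, ← q.eq_of_sup h2 hu huZ]
    exact sup_le (sup_le (fun z hz => Subgroup.mem_centralizer_singleton_iff.2 ((mem_Zs.1 hz).2 u (h2.le hu)).symm)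
      (Subgroup.zpowers_le.2 (Subgroup.mem_centralizer_singleton_iff.2 rfl)))
      (Subgroup.zpowers_le.2 (Subgroup.mem_centralizer_singleton_iff.2 hc))
  exact huZ (mem_Zs.2 ⟨h2.le hu, fun s hs => Subgroup.mem_centralizer_singleton_iff.1 (hle hs)⟩)

theorem El.image (hP : El S P) {β : MulAut S} (hβ : β ∈ F.autGroup S) : El S (img (autFn β) P) := by
  have hm := (isIso_autFn (le_refl S) hβ).1
  have hZS := FusionAbelianIndex.Zs_le S
  have he : img (autFn β) (Zs S) = Zs S :=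
    eq_of_le_of_card hZS (hm.img_le hZS fun z hz => autFn_mem_Zs hβ hz) (hm.card_img hZS).ge
  refine ⟨(hm.mono hP.le).img_le_S, fun z hz => ?_, by rw [hm.card_img hP.le, hP.card], fun u hu => ?_⟩
  · obtain ⟨v, hv, rfl⟩ := (hm.mem_img_iff hZS).1 (he.ge hz)
    exact (hm.mono hP.le).mem_img (hP.zs hv)
  · obtain ⟨v, hv, rfl⟩ := (hm.mem_img_iff hP.le).1 hu
    rw [← hm.map_mul (hP.le hv) (hP.le hv), hP.sq v hv, hm.map_one]

/-- Automorphisms of `S` preserve each elementary abelian subgroup of index 2. -/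
theorem Sq.el_invariant (q : Sq S 2) (hF : F.IsSaturated 2) (hP : El S P) {β : MulAut S}
    (hβ : β ∈ F.autGroup S) : ∀ u ∈ P, autFn β u ∈ P := by
  have hPS := hP.le
  have himg : ∀ {δ : MulAut S}, δ ∈ F.autGroup S → ∀ {R : Subgroup Ω}, R ≤ S →
      img (autFn δ) R = P → ∀ u ∈ R, autFn δ u ∈ P := fun {δ} hδ {R} hR e u hu =>
    e ▸ ((isIso_autFn (le_refl S) hδ).1.mono hR).mem_img hu
  -- squares preserve `P`
  have hsq : ∀ δ ∈ F.autGroup S, ∀ u ∈ P, autFn (δ * δ) u ∈ P := by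
    intro δ hδ u hu
    rw [autFn_mul_comp _ _ (hPS hu)]
    set P' := img (autFn δ) P with hP'
    have hm := (isIso_autFn (le_refl S) hδ).1
    have hu' : autFn δ u ∈ P' := (hm.mono hPS).mem_img hu
    by_cases he : P' = P
    · exact himg hδ hPS he _ (he ▸ hu')
    · refine himg hδ (hP.image hδ).le ?_ _ hu'
      by_contra hne
      refine q.not_three hP (hP.image hδ) ((hP.image hδ).image hδ) (Ne.symm he) (Ne.symm hne) fun e => he ?_
      refine (eq_of_le_of_card (hP.image hδ).le (fun y hy => ?_) (by rw [(hP.image hδ).card, hP.card])).symm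
      obtain ⟨y', hy', hye⟩ := (hm.mem_img_iff (hP.image hδ).le).1
        (e.le ((hm.mono hPS).mem_img hy) : autFn δ y ∈ img (autFn δ) P')
      exact hm.inj ((hP.image hδ).le hy') (hPS hy) hye ▸ hy'
  -- elements of 2-power order preserve `P`
  have hA := fullyAutomized_of_fullyNormalized q.pgroup hF
    (⟨le_rfl, fun Q _ => by rw [normalizerIn_self]; exact Subgroup.card_le_of_le inf_le_left⟩ :
      F.IsFullyNormalized S)
  have hinn : ∀ δ ∈ F.autGroup S, (∃ k, δ ^ 2 ^ k = 1) → ∀ u ∈ P, autFn δ u ∈ P := by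
    intro δ hδ ⟨k, hk⟩ u hu
    have := finite_mulAut (le_refl S)
    have hp2 : IsPGroup 2 (Subgroup.zpowers δ) := by
      rintro ⟨_, i, rfl⟩
      exact ⟨k, Subtype.ext (by
        show (δ ^ i) ^ 2 ^ k = 1
        rw [← zpow_natCast, ← zpow_mul, mul_comm, zpow_mul, zpow_natCast, hk, one_zpow])⟩
    obtain ⟨a, ha, hconj⟩ :=
      (isFullyAutomized_iff.1 hA).2.exists_conj_le hp2 (Subgroup.zpowers_le.2 hδ)
    have heq : autInducedBy S S = Cfsg.Inn S := by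
      refine le_antisymm (fun α hα => ?_) (inn_le_autInducedBy le_rfl)
      obtain ⟨g, hg, e⟩ := mem_autInducedBy_iff.1 hα
      exact ⟨⟨g, hg⟩, MulEquiv.ext fun x => Subtype.ext (e x).symm⟩
    have h1 := hconj _ (Subgroup.mem_zpowers δ)
    rw [heq] at h1
    obtain ⟨s, hs⟩ := (Cfsg.innNormal S).conj_mem _ h1 a⁻¹
    have hds : δ = MulAut.conj s := by
      rw [hs]
      group
    rw [autFn_apply δ (hPS hu), hds]
    show (s : Ω) * u * (s : Ω)⁻¹ ∈ P
    haveI : (P.subgroupOf S).Normal := Subgroup.normal_of_index_eq_two (q.index_el hP)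
    exact (inferInstance : (P.subgroupOf S).Normal).conj_mem ⟨u, hPS hu⟩ hu s
  -- decompose
  have := finite_mulAut (le_refl S)
  obtain ⟨k, hk⟩ := exists_pow_coprime 2 β
  set n := orderOf (β ^ 2 ^ k) with hn
  obtain ⟨j, hj⟩ : Odd n := Nat.coprime_two_right.1 hk
  have hβn : (β ^ n) ^ 2 ^ k = 1 := by rw [← pow_mul, mul_comm, pow_mul, hn, pow_orderOf_eq_one]
  have hpow : ∀ i : ℕ, ∀ u ∈ P, autFn ((β⁻¹ * β⁻¹) ^ i) u ∈ P := by
    intro i
    induction i with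
    | zero => intro u hu; rw [pow_zero, autFn_one (hPS hu)]; exact hu
    | succ m ih =>
      intro u hu
      rw [pow_succ, autFn_mul_comp _ _ (hPS hu)]
      exact ih _ (hsq _ (inv_mem hβ) u hu)
  intro u hu
  have hdec : β = β ^ n * (β⁻¹ * β⁻¹) ^ j := by
    rw [hj, ← pow_two, ← pow_mul, inv_pow, pow_succ', mul_inv_cancel_right]
  rw [hdec, autFn_mul_comp _ _ (hPS hu)]
  exact hinn _ ((F.autGroup S).pow_mem hβ n) ⟨k, hβn⟩ _ (hpow j u hu)

end Cfsg.Agent.FusionAbelianIndex
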