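import Cfsg.Agent.Lib.FusionAbelianIndex.CentreIndexTwo
import Cfsg.Agent.Lib.PSL2.Groups

/-
# Centre of index 4: the centre has order 2
-/

namespace Cfsg.Agent.FusionAbelianIndex

open Cfsg Cfsg.FusionSystem Cfsg.Agent Cfsg.Agent.Fusion Cfsg.Agent.FusionChain Cfsg.Agent.FusionSparse
open scoped commutatorElement

variable {Ω : Type*} [Group Ω] {S A P : Subgroup Ω} {F : FusionSystem S} [Finite S] [Fact (Nat.Prime 2)]
  {c : Ctx S A 2} {x : Ω}

theorem exists_extend_zs {p : ℕ} [Fact p.Prime] (hS : IsPGroup p S) (hF : F.IsSaturated p)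
    {g : MulAut (Zs S)} (hg : g ∈ F.autGroup (Zs S)) :
    ∃ β ∈ F.autGroup S, ∀ u ∈ Zs S, autFn β u = autFn g u := by
  have hZS := FusionAbelianIndex.Zs_le S
  obtain ⟨f, hf, hfe⟩ := (isReceptive_iff.1 (receptive_of_fullyNormalized hS hF (fn_Zs F))).2 _ _
    (isIso_autFn hZS hg)
  have hN : Nx S (Zs S) (autFn g) = S := by
    refine le_antisymm (fun s hs => hs.1.1) fun s hs => ?_
    refine mem_Nx.2 ⟨(normalizerIn_Zs S).ge hs, 1, one_mem _, fun y hy => ?_⟩
    rw [(mem_Zs.1 hy).2 s hs, mul_inv_cancel_right, one_mul, inv_one, mul_one]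
  rw [hN] at hf
  have himg : img f S = S := eq_of_le_of_card le_rfl hf.img_le_S (hf.card_img le_rfl).ge
  obtain ⟨β, hβ, hβe⟩ := exists_aut_of_isIso (⟨hf, himg⟩ : IsIso F S S f)
  exact ⟨β, hβ, fun u hu => by rw [autFn_apply β (hZS hu), hβe, hfe u hu]⟩

/-- The fixed part is invariant under the automorphisms of the centre. -/
theorem AbRad.fixedPart_centre (b : AbRad F c P x) (q : Sq S 2) (hP : El S P) {γ : MulAut P}
    (hγ : γ ∈ F.autGroup P) {z₀ : Ω} (hz₀ : z₀ ∈ Zs S) (hmove : autFn γ z₀ ∉ Zs S) {g : MulAut (Zs S)}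
    (hg : g ∈ F.autGroup (Zs S)) {d : Ω} (hd : d ∈ fixedPart S γ) : autFn g d ∈ fixedPart S γ := by
  obtain ⟨β, hβ, hβe⟩ := exists_extend_zs q.pgroup b.hsat hg
  obtain ⟨α, hα, hαe, -⟩ := FusionInner.exists_restrict (le_refl S) hP.le hβ (q.el_invariant b.hsat hP hβ)
  rw [← hβe d hd.1, ← hαe d (hP.zs hd.1)]
  exact b.fixedPart_invariant_two hγ hz₀ hmove hd hα

/-- The automorphisms move everything inside the four group of moved points. -/
theorem AbRad.disp_two (b : AbRad F c P x) {z : Ω} (hz : z ∈ Z0 S) (hz1 : z ≠ 1) {γ : MulAut P}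
    (hγ : γ ∈ F.autGroup P) {z₀ : Ω} (hz₀ : z₀ ∈ Zs S) (hmove : autFn γ z₀ ∉ Zs S)
    {V : Subgroup Ω} (hzV : z ∈ V) (hwV : autFn γ z ∈ V) {α : MulAut P} (hα : α ∈ F.autGroup P)
    (hfix : ∀ d ∈ fixedPart S γ, autFn α d = d) : ∀ u ∈ P, u⁻¹ * autFn α u ∈ V := by
  have hzP := b.rad.zs_le hz.1
  have hwP := autFn_mem γ hzP
  have hm := (isIso_autFn b.rad.lt.le hα).1
  have himage : ∀ δ ∈ F.autGroup P, autFn δ z ∈ V := fun δ hδ => by
    rcases b.image_cases hz hz1 hγ hz₀ hmove hδ with h | h | h <;> rw [h]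
    · exact hzV
    · exact hwV
    · exact mul_mem hwV hzV
  let T : Subgroup Ω :=
    { carrier := {u | u ∈ P ∧ u⁻¹ * autFn α u ∈ V}
      one_mem' := ⟨one_mem _, by rw [hm.map_one, inv_one, one_mul]; exact one_mem _⟩
      mul_mem' := by
        rintro u v ⟨hu, hu'⟩ ⟨hv, hv'⟩
        refine ⟨mul_mem hu hv, ?_⟩
        rw [hm.map_mul hu hv]
        have e : (u * v)⁻¹ * (autFn α u * autFn α v) = v⁻¹ * (u⁻¹ * autFn α u) * autFn α v := by group
        rw [e, b.comm _ (P.inv_mem hv) _ (P.mul_mem (P.inv_mem hu) (autFn_mem α hu)), mul_assoc]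
        exact mul_mem hu' hv'
      inv_mem' := by
        rintro u ⟨hu, hu'⟩
        refine ⟨inv_mem hu, ?_⟩
        rw [hm.map_inv hu]
        have h1 := inv_mem hu'
        rw [inv_inv]
        rwa [mul_inv_rev, inv_inv, b.comm _ (P.inv_mem (autFn_mem α hu)) _ hu] at h1 }
  have hwZ : autFn γ z ∉ Zs S := fun h => hmove (b.preserves_of_mem hγ hz hz1 h z₀ hz₀)
  have hzD : z ∉ fixedPart S γ := fun h => hz1 (b.fixed_inf_Z0 hγ hz₀ hmove h hz)
  have hX : T ⊓ Zs S = Zs S := by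
    refine b.eq_zs_of_gt hγ hz₀ hmove inf_le_right (fun d hd => ⟨⟨b.rad.zs_le hd.1, ?_⟩, hd.1⟩) (v := z)
      ⟨⟨hzP, mul_mem (inv_mem hzV) (himage α hα)⟩, hz.1⟩ hzD
    rw [hfix d hd, inv_mul_cancel]
    exact one_mem _
  have hT : P ≤ T := by
    conv_lhs => rw [b.rad.eq_sup c hwP (fun h => hwZ (b.inf_eq ▸ ⟨hwP, h⟩)), b.inf_eq]
    refine sup_le (hX.ge.trans inf_le_left) (Subgroup.zpowers_le.2 ⟨hwP, mul_mem (inv_mem hwV) ?_⟩)
    rw [← autFn_mul_comp _ _ hzP]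
    exact himage _ (mul_mem hα hγ)
  exact fun u hu => (hT hu).2

theorem Sq.two_radicals (q : Sq S 2) (hF : F.IsSaturated 2) (hcore : F.core = ⊥) :
    ∃ P₁ P₂, Rad F 2 P₁ ∧ Rad F 2 P₂ ∧ P₁ ≠ P₂ := by
  obtain ⟨P, r⟩ := q.exists_radical hF hcore
  have he := q.el hF hcore r
  by_contra hne
  have h : P = ⊥ := by
    refine eq_bot_of_normal hcore (isNormal_of_radicals q.pgroup hF r.lt.le fun R hfn hc hr => ?_)
    by_cases hRS : R = S
    · subst hRS
      exact ⟨r.lt.le, fun α hα => q.el_invariant hF he hα⟩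
    obtain rfl : R = P := by
      by_contra hRP
      exact hne ⟨R, P, ⟨hc, hr, hfn, lt_of_le_of_ne hc.1 hRS⟩, r, hRP⟩
    exact ⟨le_rfl, fun α _ u hu => autFn_mem α hu⟩
  haveI : Finite (Zs S) := finite_of_le (FusionAbelianIndex.Zs_le S)
  have hc := he.card
  rw [h, Subgroup.card_bot] at hc
  have := Nat.card_pos (α := Zs S)
  omega

theorem card_sup_zpowers_le {V : Subgroup Ω} [Finite V] {w : Ω} (hw : w * w = 1)
    (h : w ∈ Subgroup.normalizer (V : Set Ω)) : Nat.card ↥(V ⊔ Subgroup.zpowers w) ≤ 2 * Nat.card V := by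
  have hc : Nat.card (Subgroup.zpowers w) ≤ 2 := by
    rw [Nat.card_zpowers]
    exact Nat.le_of_dvd two_pos (orderOf_dvd_of_pow_eq_one (by rw [pow_two, hw]))
  rw [sup_comm, ← SetLike.coe_sort_coe,
    Subgroup.coe_mul_of_left_le_normalizer_right _ _ (Subgroup.zpowers_le.2 h)]
  exact Set.natCard_mul_le.trans (Nat.mul_le_mul_right _ hc)

theorem Sq.center_order_two (q : Sq S 2) (hF : F.IsSaturated 2) (hcore : F.core = ⊥)
    (hhyp : F.hyperfocalSubgroup 2 = S) : Nat.card (Zs S) = 2 := by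
  obtain ⟨P₁, P₂, r₁, r₂, h12⟩ := q.two_radicals hF hcore
  obtain ⟨A₁, c₁, x₁, b₁⟩ := q.exists_abRad hF r₁
  obtain ⟨A₂, c₂, x₂, b₂⟩ := q.exists_abRad hF r₂
  have e₁ := q.el hF hcore r₁
  have e₂ := q.el hF hcore r₂
  obtain ⟨γ₁, hγ₁, ⟨u₁, hu₁, hm₁⟩, hfix₁⟩ := b₁.exists_good
  obtain ⟨γ₂, hγ₂, ⟨u₂, hu₂, hm₂⟩, hfix₂⟩ := b₂.exists_good
  have hZS := FusionAbelianIndex.Zs_le S
  set D₁ := fixedPart S γ₁ with hD₁
  set D₂ := fixedPart S γ₂ with hD₂
  have hD₁Z : D₁ ≤ Zs S := inf_le_left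
  have hD₂Z : D₂ ≤ Zs S := inf_le_left
  have honly : ∀ R, Rad F 2 R → R = P₁ ∨ R = P₂ := fun R r => by
    by_contra hne
    push Not at hne
    exact q.not_three e₁ e₂ (q.el hF hcore r) h12 (Ne.symm hne.1) (Ne.symm hne.2)
  -- the common fixed part is normal
  have hbot : D₁ ⊓ D₂ = ⊥ := by
    refine eq_bot_of_normal hcore (isNormal_of_radicals q.pgroup hF
      (inf_le_left.trans (hD₁Z.trans hZS)) fun R hfn hc hr => ?_)
    by_cases hRS : R = S
    · subst hRS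
      refine ⟨inf_le_left.trans (hD₁Z.trans hZS), fun α hα d hd => ?_⟩
      obtain ⟨g, hg, hge, -⟩ :=
        FusionInner.exists_restrict le_rfl hZS hα fun z hz => autFn_mem_Zs hα hz
      rw [← hge d (hD₁Z hd.1)]
      exact ⟨b₁.fixedPart_centre q e₁ hγ₁ hu₁ hm₁ hg hd.1, b₂.fixedPart_centre q e₂ hγ₂ hu₂ hm₂ hg hd.2⟩
    have r : Rad F 2 R := ⟨hc, hr, hfn, lt_of_le_of_ne hc.1 hRS⟩
    refine ⟨inf_le_left.trans (hD₁Z.trans r.zs_le), fun α hα d hd => ?_⟩
    rcases honly R ⟨hc, hr, hfn, lt_of_le_of_ne hc.1 hRS⟩ with rfl | rfl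
    · obtain ⟨g, hg, hge⟩ := b₁.exists_centre_aut hγ₁ hu₁ hm₁ hfix₁ hα
      rw [hge d hd.1]
      exact ⟨b₁.fixedPart_centre q e₁ hγ₁ hu₁ hm₁ hg hd.1, b₂.fixedPart_centre q e₂ hγ₂ hu₂ hm₂ hg hd.2⟩
    · obtain ⟨g, hg, hge⟩ := b₂.exists_centre_aut hγ₂ hu₂ hm₂ hfix₂ hα
      rw [hge d hd.2]
      exact ⟨b₁.fixedPart_centre q e₁ hγ₁ hu₁ hm₁ hg hd.1, b₂.fixedPart_centre q e₂ hγ₂ hu₂ hm₂ hg hd.2⟩
  have hc1 := b₁.card_zs hγ₁ hu₁ hm₁
  have hc2 := b₂.card_zs hγ₂ hu₂ hm₂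
  haveI : Finite (Zs S) := finite_of_le hZS
  haveI : Finite D₁ := finite_of_le (hD₁Z.trans hZS)
  have hsame : Nat.card D₂ = Nat.card D₁ := Nat.eq_of_mul_eq_mul_left two_pos (hc2.symm.trans hc1)
  have hsq : Nat.card D₁ * Nat.card D₂ ≤ Nat.card (Zs S) := by
    rw [← Nat.card_prod]
    refine Nat.card_le_card_of_injective
      (fun ab => (⟨(ab.1 : Ω) * ab.2, mul_mem (hD₁Z ab.1.2) (hD₂Z ab.2.2)⟩ : Zs S)) fun a b e => ?_
    have e' : (a.1 : Ω) * a.2 = b.1 * b.2 := congrArg Subtype.val e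
    have h1 : (b.1 : Ω)⁻¹ * a.1 = b.2 * (a.2 : Ω)⁻¹ := by
      rw [eq_mul_inv_iff_mul_eq, mul_assoc, e', inv_mul_cancel_left]
    have h2 : (b.1 : Ω)⁻¹ * a.1 ∈ D₁ ⊓ D₂ :=
      ⟨D₁.mul_mem (D₁.inv_mem b.1.2) a.1.2, h1 ▸ D₂.mul_mem b.2.2 (D₂.inv_mem a.2.2)⟩
    rw [hbot, Subgroup.mem_bot] at h2
    have h3 : (a.1 : Ω) = b.1 := (inv_mul_eq_one.1 h2).symm
    rw [h3] at e'
    exact Prod.ext (Subtype.ext h3) (Subtype.ext (mul_left_cancel e'))
  rw [hsame, hc1] at hsq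
  have hle2 : Nat.card D₁ ≤ 2 := Nat.le_of_mul_le_mul_right hsq Nat.card_pos
  rcases (show Nat.card D₁ = 1 ∨ Nat.card D₁ = 2 from by have := Nat.card_pos (α := D₁); omega) with h | h
  · rw [hc1, h]
  exfalso
  -- the centre has order 4 and is fixed by everything
  obtain ⟨z, hz, hz1, huni⟩ := b₁.exists_z0
  have hzD : z ∉ D₁ := fun h => hz1 (b₁.fixed_inf_Z0 hγ₁ hu₁ hm₁ h hz)
  have htriv : ∀ g ∈ F.autGroup (Zs S), ∀ u ∈ Zs S, autFn g u = u := by
    intro g hg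
    have hm := (isIso_autFn hZS hg).1
    let X : Subgroup Ω :=
      { carrier := {u | u ∈ Zs S ∧ autFn g u = u}
        one_mem' := ⟨one_mem _, hm.map_one⟩
        mul_mem' := fun {y z} hy hz => ⟨mul_mem hy.1 hz.1, by rw [hm.map_mul hy.1 hz.1, hy.2, hz.2]⟩
        inv_mem' := fun {y} hy => ⟨inv_mem hy.1, by rw [hm.map_inv hy.1, hy.2]⟩ }
    obtain ⟨⟨d, hd⟩, hd1, hdu⟩ := (Nat.card_eq_two_iff' (1 : D₁)).1 h
    have hX : X = Zs S := by
      refine b₁.eq_zs_of_gt hγ₁ hu₁ hm₁ (fun u hu => hu.1) (fun u hu => ⟨hD₁Z hu, ?_⟩) (v := z) ⟨hz.1, ?_⟩ hzD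
      · by_cases hu1 : u = 1
        · rw [hu1]; exact hm.map_one
        have e1 : (⟨u, hu⟩ : D₁) = ⟨d, hd⟩ := hdu ⟨u, hu⟩ fun e => hu1 (congrArg Subtype.val e)
        have hgu : (⟨_, b₁.fixedPart_centre q e₁ hγ₁ hu₁ hm₁ hg hu⟩ : D₁) = ⟨d, hd⟩ := hdu _ fun e =>
          hu1 (hm.inj (hD₁Z hu) (one_mem _) ((congrArg Subtype.val e).trans hm.map_one.symm))
        exact congrArg Subtype.val (hgu.trans e1.symm)
      · rcases huni _ (autFn_mem_Z0 q.pgroup hF hg hz) with h' | h'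
        · exact absurd (hm.inj hz.1 (one_mem _) (h'.trans hm.map_one.symm)) hz1
        · exact h'
    exact fun u hu => (hX.ge hu).2
  set w₁ := autFn γ₁ z with hw₁
  set w₂ := autFn γ₂ z with hw₂
  set T := (Subgroup.zpowers z ⊔ Subgroup.zpowers w₁) ⊔ Subgroup.zpowers w₂ with hT
  have hzT : z ∈ T := Subgroup.mem_sup_left (Subgroup.mem_sup_left (Subgroup.mem_zpowers z))
  have hw₁P : w₁ ∈ P₁ := autFn_mem γ₁ (r₁.zs_le hz.1)
  have hw₂P : w₂ ∈ P₂ := autFn_mem γ₂ (r₂.zs_le hz.1)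
  have hTS : T ≤ S := sup_le (sup_le (Subgroup.zpowers_le.2 (hZS hz.1))
    (Subgroup.zpowers_le.2 (r₁.lt.le hw₁P))) (Subgroup.zpowers_le.2 (r₂.lt.le hw₂P))
  have hcommT : ∀ a ∈ S, ∀ s ∈ S, ⁅a, s⁆ ∈ Subgroup.zpowers z := by
    intro a ha s hs
    have hmem : ⁅a, s⁆ ∈ (commutator S).map S.subtype :=
      ⟨⁅(⟨a, ha⟩ : S), ⟨s, hs⟩⁆, Subgroup.commutator_mem_commutator (Subgroup.mem_top _) (Subgroup.mem_top _),
        by simp [commutatorElement_def]⟩
    rcases huni _ ⟨q.commutator_le hmem, hmem⟩ with h' | h' <;> rw [h']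
    · exact one_mem _
    · exact Subgroup.mem_zpowers z
  -- its order is at most 8
  have hcard : Nat.card T ≤ 8 := by
    have hVS : Subgroup.zpowers z ⊔ Subgroup.zpowers w₁ ≤ S := le_sup_left.trans hTS
    haveI : Finite (Subgroup.zpowers z) := finite_of_le (le_sup_left.trans hVS)
    haveI : Finite ↥(Subgroup.zpowers z ⊔ Subgroup.zpowers w₁) := finite_of_le hVS
    have h1 : Nat.card ↥(Subgroup.zpowers z ⊔ Subgroup.zpowers w₁) ≤ 2 * Nat.card (Subgroup.zpowers z) := by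
      refine card_sup_zpowers_le (e₁.sq w₁ hw₁P) (mem_normalizerIn_of_conj (r₁.lt.le hw₁P) fun y hy => ?_).2
      have hyZ : y ∈ Zs S := (Subgroup.zpowers_le.2 hz.1) hy
      rwa [(mem_Zs.1 hyZ).2 w₁ (r₁.lt.le hw₁P), mul_inv_cancel_right]
    have h2 : Nat.card T ≤ 2 * Nat.card ↥(Subgroup.zpowers z ⊔ Subgroup.zpowers w₁) := by
      refine card_sup_zpowers_le (e₂.sq w₂ hw₂P) (mem_normalizerIn_of_conj (r₂.lt.le hw₂P) fun y hy => ?_).2
      have e : w₂ * y * w₂⁻¹ = ⁅w₂, y⁆ * y := by simp [commutatorElement_def]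
      rw [e]
      exact mul_mem (Subgroup.mem_sup_left (hcommT _ (r₂.lt.le hw₂P) y (hVS hy))) hy
    have h3 : Nat.card (Subgroup.zpowers z) ≤ 2 := by
      rw [Nat.card_zpowers]
      exact Nat.le_of_dvd two_pos (orderOf_dvd_of_pow_eq_one
        (by rw [pow_two, q.zs_sq hF hcore z hz.1]))
    omega
  -- all maps move inside it
  have hM : ∀ P' f, IsMap F P' f → ∀ y ∈ P', y⁻¹ * f y ∈ T := by
    intro P' f hf
    refine alperin q.pgroup hF (fun P' f => ∀ y ∈ P', y⁻¹ * f y ∈ T) ?_ ?_ ?_ ?_ hf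
    · intro Q f g _ h he y hy
      rw [← he y hy]
      exact h y hy
    · intro Q Q' f _ hle h y hy
      exact h y (hle hy)
    · intro Q Q' f g _ _ hfQ h h' y hy
      have := mul_mem (h y hy) (h' _ (hfQ y hy))
      rwa [mul_assoc, mul_inv_cancel_left] at this
    intro R hfn hc hr α hα
    by_cases hRS : R = S
    · subst hRS
      have := finite_mulAut (le_refl R)
      have htrivS : ∀ β ∈ F.autGroup R, ∀ u ∈ Zs R, autFn β u = u := fun β hβ u hu => by
        obtain ⟨g, hg, hge, -⟩ := FusionInner.exists_restrict le_rfl hZS hβ fun z hz => autFn_mem_Zs hβ hz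
        rw [← hge u hu, htriv g hg u hu]
      have hmod : ∀ β ∈ F.autGroup R, ∀ u ∈ R, u⁻¹ * autFn β u ∈ Zs R := by
        intro β hβ
        have hm := (isIso_autFn (le_refl R) hβ).1
        let Y : Subgroup Ω :=
          { carrier := {u | u ∈ R ∧ u⁻¹ * autFn β u ∈ Zs R}
            one_mem' := ⟨one_mem _, by rw [hm.map_one, inv_one, one_mul]; exact one_mem _⟩
            mul_mem' := by
              rintro u v ⟨hu, hu'⟩ ⟨hv, hv'⟩
              refine ⟨mul_mem hu hv, ?_⟩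
              rw [hm.map_mul hu hv]
              have e : (u * v)⁻¹ * (autFn β u * autFn β v) = v⁻¹ * (u⁻¹ * autFn β u) * autFn β v := by group
              rw [e, (mem_Zs.1 hu').2 _ (inv_mem hv), mul_assoc]
              exact mul_mem hu' hv'
            inv_mem' := by
              rintro u ⟨hu, hu'⟩
              refine ⟨inv_mem hu, ?_⟩
              rw [hm.map_inv hu]
              have h1 := inv_mem hu'
              have e : u⁻¹⁻¹ * (autFn β u)⁻¹ = u * (u⁻¹ * autFn β u)⁻¹ * u⁻¹ := by group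
              rw [e, (mem_Zs.1 h1).2 u hu, mul_inv_cancel_right]
              exact h1 }
        have hPY : ∀ {P' : Subgroup Ω}, El R P' → P' ≤ Y := fun {P'} he u hu => by
          refine ⟨he.le hu, ?_⟩
          by_cases huZ : u ∈ Zs R
          · rw [htrivS β hβ u huZ, inv_mul_cancel]; exact one_mem _
          have hu' := q.el_invariant hF he hβ u hu
          have hu'Z : autFn β u ∉ Zs R := fun h' => huZ (by
            have := hm.inj (he.le hu) (hZS h') (htrivS β hβ _ h').symm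
            rwa [this])
          obtain ⟨v, hv, hvP⟩ : ∃ v ∈ P₁ ⊔ P₂, v ∉ P' := by
            by_contra hne
            push Not at hne
            refine h12 ((eq_of_le_of_card he.le (le_sup_left.trans hne) (by rw [he.card, e₁.card])).trans
              (eq_of_le_of_card he.le (le_sup_right.trans hne) (by rw [he.card, e₂.card])).symm)
          obtain ⟨c', -⟩ := q.ctx (sup_le e₁.le e₂.le hv) fun h => hvP (he.zs h)
          have hidx : ((Zs R).subgroupOf P').index = 2 := by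
            have h := ((Zs R).subgroupOf P').card_mul_index
            rw [Nat.card_congr (Subgroup.subgroupOfEquivOfLe he.zs).toEquiv, he.card, mul_comm 2] at h
            exact Nat.eq_of_mul_eq_mul_left Nat.card_pos h
          exact (Subgroup.mul_mem_iff_of_index_two hidx (a := ⟨u⁻¹, P'.inv_mem hu⟩) (b := ⟨_, hu'⟩)).2
            ⟨fun h => absurd ((Zs R).inv_mem_iff.1 (Subgroup.mem_subgroupOf.1 h)) huZ,
              fun h => absurd (Subgroup.mem_subgroupOf.1 h) hu'Z⟩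
        have hY : R ≤ Y := by
          have hlt : P₁ < P₁ ⊔ P₂ := left_lt_sup.2 fun hle =>
            h12 (eq_of_le_of_card e₁.le hle (by rw [e₁.card, e₂.card])).symm
          have h := mul_card_le q.pgroup hlt (sup_le e₁.le e₂.le)
          rw [e₁.card, ← mul_assoc, ← pow_two, ← q.card] at h
          rw [← eq_of_le_of_card le_rfl (sup_le e₁.le e₂.le) h]
          exact sup_le (hPY e₁) (hPY e₂)
        exact fun u hu => (hY hu).2
      have hp : IsPGroup 2 (F.autGroup R) := isPGroup_of_coprime_trivial fun g hg => by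
        refine Subtype.ext (MulEquiv.ext fun y => ?_)
        refine eq_self_of_stab q.pgroup (g : MulAut R) (by rwa [Subgroup.orderOf_coe])
          ((Zs R).subgroupOf R) (fun u hu => Subtype.ext ?_) y ?_
        · rw [← autFn_apply _ u.2]
          exact htrivS g g.2 u hu
        · have := hmod g g.2 y y.2
          rw [autFn_apply _ y.2] at this
          exact Subgroup.mem_subgroupOf.2 this
      have hA := (isFullyAutomized_iff.1 (fullyAutomized_of_fullyNormalized q.pgroup hF hfn)).2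
      have heq := hA.2.2 _ hA.1 le_rfl hp
      obtain ⟨s, hs, hse⟩ := mem_autInducedBy_iff.1 (heq ▸ hα)
      intro y hy
      rw [autFn_apply α hy, hse ⟨y, hy⟩]
      have e : y⁻¹ * (s * y * s⁻¹) = ⁅y⁻¹, s⁆ := by simp [commutatorElement_def, mul_assoc]
      rw [e]
      exact Subgroup.mem_sup_left (Subgroup.mem_sup_left (hcommT _ (inv_mem hy) s hs))
    rcases honly R ⟨hc, hr, hfn, lt_of_le_of_ne hc.1 hRS⟩ with rfl | rfl
    · obtain ⟨g, hg, hge⟩ := b₁.exists_centre_aut hγ₁ hu₁ hm₁ hfix₁ hα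
      exact b₁.disp_two hz hz1 hγ₁ hu₁ hm₁ hzT
        (Subgroup.mem_sup_left (Subgroup.mem_sup_right (Subgroup.mem_zpowers w₁))) hα
        fun d hd => (hge d hd).trans (htriv g hg d (hD₁Z hd))
    · obtain ⟨g, hg, hge⟩ := b₂.exists_centre_aut hγ₂ hu₂ hm₂ hfix₂ hα
      exact b₂.disp_two hz hz1 hγ₂ hu₂ hm₂ hzT (Subgroup.mem_sup_right (Subgroup.mem_zpowers w₂)) hα
        fun d hd => (hge d hd).trans (htriv g hg d (hD₂Z hd))
  have hST : S ≤ T := by
    refine hhyp.ge.trans ((hyperfocal_le_focal 2).trans ((Subgroup.closure_le _).2 ?_))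
    rintro _ ⟨Q, φ, y, hφ, rfl⟩
    have := hM Q (toFn φ) (isMap_toFn hφ) y y.2
    rwa [toFn_coe] at this
  haveI : Finite T := finite_of_le hTS
  have h16 : Nat.card S = 16 := by rw [q.card, hc1, h]; norm_num
  have := Subgroup.card_le_of_le hST
  omega

theorem Sq.dihedral (q : Sq S 2) (hF : F.IsSaturated 2) (hcore : F.core = ⊥) (hZ : Nat.card (Zs S) = 2) :
    Nonempty (S ≃* DihedralGroup 4) := by
  obtain ⟨P₁, P₂, r₁, r₂, h12⟩ := q.two_radicals hF hcore
  have e₁ := q.el hF hcore r₁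
  have e₂ := q.el hF hcore r₂
  obtain ⟨u, hu, hu2⟩ : ∃ u ∈ P₁, u ∉ P₂ := by
    by_contra hne
    push Not at hne
    exact h12 (eq_of_le_of_card e₂.le hne (by rw [e₁.card, e₂.card]))
  obtain ⟨v, hv, hv1⟩ : ∃ v ∈ P₂, v ∉ P₁ := by
    by_contra hne
    push Not at hne
    exact h12 (eq_of_le_of_card e₁.le hne (by rw [e₁.card, e₂.card])).symm
  have huZ : u ∉ Zs S := fun h => hu2 (e₂.zs h)
  set a : S := ⟨u, e₁.le hu⟩
  set b : S := ⟨v, e₂.le hv⟩
  have ha2 : a * a = 1 := Subtype.ext (e₁.sq u hu)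
  have hb2 : b * b = 1 := Subtype.ext (e₂.sq v hv)
  have hab : a * b ≠ b * a := by
    intro h
    have hc : v * u = u * v := congrArg Subtype.val h.symm
    have htop : P₁ ⊔ Subgroup.zpowers v = S := by
      have hle : P₁ ⊔ Subgroup.zpowers v ≤ S := sup_le e₁.le (Subgroup.zpowers_le.2 (e₂.le hv))
      refine eq_of_le_of_card le_rfl hle ?_
      have h := mul_card_le q.pgroup (left_lt_sup.2 fun hh => hv1 (hh (Subgroup.mem_zpowers v)) :
        P₁ < P₁ ⊔ Subgroup.zpowers v) hle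
      rwa [e₁.card, ← mul_assoc, ← pow_two, ← q.card] at h
    have hle : S ≤ Subgroup.centralizer {u} := by
      conv_lhs => rw [← htop, ← q.eq_of_sup e₁ hu huZ]
      exact sup_le (sup_le (fun z hz => Subgroup.mem_centralizer_singleton_iff.2 ((mem_Zs.1 hz).2 u (e₁.le hu)).symm)
        (Subgroup.zpowers_le.2 (Subgroup.mem_centralizer_singleton_iff.2 rfl)))
        (Subgroup.zpowers_le.2 (Subgroup.mem_centralizer_singleton_iff.2 hc))
    exact huZ (mem_Zs.2 ⟨e₁.le hu, fun s hs => Subgroup.mem_centralizer_singleton_iff.1 (hle hs)⟩)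
  have hia : a⁻¹ = a := inv_eq_of_mul_eq_one_right ha2
  have hib : b⁻¹ = b := inv_eq_of_mul_eq_one_right hb2
  have hc4 : orderOf (a * b) = 4 := by
    refine orderOf_eq_prime_pow (p := 2) (n := 1) (fun h => hab ?_) ?_
    · rw [pow_one, pow_two] at h
      have h1 := inv_eq_of_mul_eq_one_right h
      rw [mul_inv_rev, hia, hib] at h1
      exact h1.symm
    · rw [pow_succ, pow_one, pow_mul]
      refine Subtype.ext ?_
      have h1 : ((a * b : S) : Ω) ^ 2 ∈ Zs S := q.pow_mem (a * b).2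
      rw [pow_two (((a * b) ^ 2 : S))]
      exact q.zs_sq hF hcore _ h1
  refine PSL2.mulEquiv_dihedral (n := 4) (by rw [q.card, hZ]; norm_num) (by norm_num) (a * b) a hc4
    (orderOf_eq_prime (by rw [pow_two, ha2]) fun h => huZ (by
      have : u = 1 := congrArg Subtype.val h
      rw [this]; exact one_mem _)) ?_ ?_
  · rw [mul_inv_rev, hia, hib, ← mul_assoc a a b, ha2, one_mul]
  · intro h
    obtain ⟨i, hi⟩ := Subgroup.mem_zpowers_iff.1 h
    have hc := (Commute.refl (a * b)).zpow_left i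
    rw [hi] at hc
    have h1 := hc.eq
    rw [← mul_assoc, ha2, one_mul] at h1
    apply hab
    calc a * b = a * (a * b * a) := by rw [← h1]
      _ = b * a := by rw [← mul_assoc, ← mul_assoc, ha2, one_mul]

end Cfsg.Agent.FusionAbelianIndex
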