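import Cfsg.Agent.Lib.FusionAbelianIndex.Basic
import Cfsg.Agent.Lib.FusionChain.Radical
import Cfsg.Agent.Lib.Fusion.Essential
import Cfsg.Agent.Lib.FusionSparse.Basic

/-
# Centric radical subgroups in the presence of an abelian subgroup of index p
-/

namespace Cfsg.Agent.FusionAbelianIndex

open Cfsg Cfsg.FusionSystem Cfsg.Agent Cfsg.Agent.Fusion Cfsg.Agent.FusionChain Cfsg.Agent.FusionSparse

variable {Ω : Type*} [Group Ω] {S A P : Subgroup Ω} {F : FusionSystem S} {p : ℕ} [Finite S] [Fact p.Prime]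

/-- The subgroups to which the analysis applies. -/
structure Rad (F : FusionSystem S) (p : ℕ) (P : Subgroup Ω) : Prop where
  centric : F.IsCentric P
  radical : F.IsRadical p P
  fn : F.IsFullyNormalized P
  lt : P < S

theorem Rad.cle (r : Rad F p P) : centralizerIn S P ≤ P := centralizerIn_le_of_centric r.centric

theorem Rad.zs_le (r : Rad F p P) : Zs S ≤ P := fun _ hz =>
  r.cle (mem_centralizerIn.2 ⟨(mem_Zs.1 hz).1, fun _ hy => ((mem_Zs.1 hz).2 _ (r.lt.le hy)).symm⟩)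

theorem Rad.zs_commute (r : Rad F p P) {z y : Ω} (hz : z ∈ Zs S) (hy : y ∈ P) : y * z = z * y :=
  (mem_Zs.1 hz).2 y (r.lt.le hy)

/-- A group of automorphisms stabilising a subgroup and its cosets consists of inner ones. -/
theorem Rad.mem_of_stab (r : Rad F p P) (hS : IsPGroup p S) {U : Subgroup Ω} (hUP : U ≤ P)
    (hUinv : ∀ α ∈ F.autGroup P, ∀ u ∈ U, autFn α u ∈ U) {g : Ω} (hg : g ∈ normalizerIn S P)
    (hU : ∀ u ∈ U, g * u * g⁻¹ = u) (hmod : ∀ y ∈ P, y⁻¹ * (g * y * g⁻¹) ∈ U) : g ∈ P := by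
  have hmemA : normConj S P ⟨g, hg⟩ ∈ F.autGroup P :=
    autInducedBy_le_autGroup F le_rfl r.lt.le ((range_normConj S P).le ⟨_, rfl⟩)
  let V : ℕ → Subgroup P := fun i => if i = 0 then ⊥ else if i = 1 then U.subgroupOf P else ⊤
  have hV : normConj S P ⟨g, hg⟩ ∈ pCoreAut F p P := by
    refine mem_pCoreAut_of_chain hS r.lt.le 2 V rfl rfl ?_ ?_ hmemA ?_
    · intro i hi
      rcases i with _ | _ | i
      · exact bot_le
      · exact le_top
      · omega
    · intro a ha i hi x hx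
      rcases i with _ | _ | i
      · rw [show V 0 = ⊥ from rfl, Subgroup.mem_bot] at hx ⊢
        rw [hx, map_one]
      · refine Subgroup.mem_subgroupOf.2 ?_
        have h1 := hUinv a ha x (Subgroup.mem_subgroupOf.1 hx)
        rwa [autFn_apply a x.2] at h1
      · exact Subgroup.mem_top _
    · intro i hi x hx
      rcases i with _ | _ | i
      · have h1 : normConj S P ⟨g, hg⟩ x = x := Subtype.ext (hU x (Subgroup.mem_subgroupOf.1 hx))
        rw [h1, inv_mul_cancel]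
        exact one_mem _
      · exact Subgroup.mem_subgroupOf.2 (hmod x x.2)
      · omega
  rw [(isRadical_iff.1 r.radical).2] at hV
  exact mem_of_conj_mem_inn r.cle hg.1 r.lt.le hV fun x => rfl

theorem Rad.exists_outside (r : Rad F p P) (c : Ctx S A p) (hne : P ≠ A) : ∃ x ∈ P, x ∉ A := by
  by_contra h
  have hle : P ≤ A := fun y hy => by
    by_contra hyA
    exact h ⟨y, hy, hyA⟩
  exact hne (le_antisymm hle fun a ha =>
    r.cle (mem_centralizerIn.2 ⟨c.le ha, fun y hy => c.comm a ha y (hle hy)⟩))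

theorem Rad.inf_ge (r : Rad F p P) (c : Ctx S A p) (hna : ¬ IsMulCommutative S) : Zs S ≤ P ⊓ A :=
  le_inf r.zs_le (c.Zs_le hna)

theorem Rad.eq_sup (r : Rad F p P) (c : Ctx S A p) {x : Ω} (hxP : x ∈ P) (hxA : x ∉ A) :
    P = (P ⊓ A) ⊔ Subgroup.zpowers x := by
  refine le_antisymm (fun y hy => ?_) (sup_le inf_le_left (Subgroup.zpowers_le.2 hxP))
  obtain ⟨a, ha, i, e⟩ := c.exists_mul (r.lt.le hxP) hxA (r.lt.le hy)
  have haP : a ∈ P := by
    rw [show a = y * (x ^ i)⁻¹ by rw [e]; group]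
    exact P.mul_mem hy (P.inv_mem (P.zpow_mem hxP i))
  rw [e]
  exact Subgroup.mul_mem _ (Subgroup.mem_sup_left ⟨haP, ha⟩)
    (Subgroup.mem_sup_right (Subgroup.zpow_mem _ (Subgroup.mem_zpowers x) i))

theorem Rad.comm_outside (r : Rad F p P) (c : Ctx S A p) {x : Ω} (hxP : x ∈ P) (hxA : x ∉ A)
    (h : ∀ a ∈ P ⊓ A, x * a = a * x) : ∀ y ∈ P, ∀ z ∈ P, y * z = z * y := by
  have hle : P ≤ Subgroup.centralizer (P : Set Ω) := by
    have hx : x ∈ Subgroup.centralizer (P : Set Ω) := by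
      refine Subgroup.mem_centralizer_iff.2 fun y hy => ?_
      have hP : P ≤ Subgroup.centralizer {x} := by
        rw [r.eq_sup c hxP hxA]
        refine sup_le (fun a ha => Subgroup.mem_centralizer_singleton_iff.2 (h a ha).symm)
          (Subgroup.zpowers_le.2 (Subgroup.mem_centralizer_singleton_iff.2 rfl))
      exact Subgroup.mem_centralizer_singleton_iff.1 (hP hy)
    have hs := r.eq_sup c hxP hxA
    intro y hy
    rw [hs] at hy
    refine sup_le (fun a ha => ?_) (Subgroup.zpowers_le.2 hx) hy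
    refine Subgroup.mem_centralizer_iff.2 fun y hy => ?_
    have hP : P ≤ Subgroup.centralizer {a} := by
      rw [hs]
      refine sup_le (fun b hb => Subgroup.mem_centralizer_singleton_iff.2 (c.comm b hb.2 a ha.2))
        (Subgroup.zpowers_le.2 (Subgroup.mem_centralizer_singleton_iff.2 (h a ha)))
    exact Subgroup.mem_centralizer_singleton_iff.1 (hP hy)
  intro y hy z hz
  exact Subgroup.mem_centralizer_iff.1 (hle hz) y hy

/-- The abelian type. -/
theorem Rad.inf_eq_of_comm (r : Rad F p P) (c : Ctx S A p) (hna : ¬ IsMulCommutative S) {x : Ω} (hxP : x ∈ P)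
    (hxA : x ∉ A) (h : ∀ a ∈ P ⊓ A, x * a = a * x) : P ⊓ A = Zs S := by
  refine le_antisymm (fun a ha => ?_) (r.inf_ge c hna)
  have h1 : (⟨a, ha.2⟩ : A) ∈ (c.d (r.lt.le hxP)).ker := by
    rw [MonoidHom.mem_ker, c.d_eq_one]
    exact h a ha
  rw [c.ker_d hna (r.lt.le hxP) hxA] at h1
  exact h1

/-- The nonabelian type: the centre. -/
theorem Rad.center_eq (r : Rad F p P) (c : Ctx S A p) (hna : ¬ IsMulCommutative S) {x : Ω} (hxP : x ∈ P)
    (hxA : x ∉ A) (hnc : ¬ ∀ a ∈ P ⊓ A, x * a = a * x) {z : Ω} :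
    (z ∈ P ∧ ∀ y ∈ P, y * z = z * y) ↔ z ∈ Zs S := by
  refine ⟨fun ⟨hz, hzc⟩ => ?_, fun hz => ⟨r.zs_le hz, fun y hy => r.zs_commute hz hy⟩⟩
  by_cases hzA : z ∈ A
  · have h1 : (⟨z, hzA⟩ : A) ∈ (c.d (r.lt.le hxP)).ker := by
      rw [MonoidHom.mem_ker, c.d_eq_one]
      exact hzc x hxP
    rw [c.ker_d hna (r.lt.le hxP) hxA] at h1
    exact h1
  · refine absurd (fun a ha => ?_) hnc
    exact r.comm_outside c hz hzA (fun b hb => (hzc b hb.1).symm) x hxP a ha.1

theorem Rad.zs_invariant (r : Rad F p P) (c : Ctx S A p) (hna : ¬ IsMulCommutative S) {x : Ω} (hxP : x ∈ P)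
    (hxA : x ∉ A) (hnc : ¬ ∀ a ∈ P ⊓ A, x * a = a * x) :
    ∀ α ∈ F.autGroup P, ∀ u ∈ Zs S, autFn α u ∈ Zs S := by
  intro α hα u hu
  obtain ⟨huP, huc⟩ := (r.center_eq c hna hxP hxA hnc).2 hu
  refine (r.center_eq c hna hxP hxA hnc).1 ⟨autFn_mem α huP, fun y hy => ?_⟩
  have hm := (isIso_autFn r.lt.le hα)
  obtain ⟨w, hw, rfl⟩ := hm.exists_eq hy
  rw [← hm.1.map_mul hw huP, ← hm.1.map_mul huP hw, huc w hw]

/-- Whatever normalizes an abelian-type or nonabelian-type subgroup inside `A`. -/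
theorem Rad.mem_normalizer_iff (r : Rad F p P) (c : Ctx S A p) (hna : ¬ IsMulCommutative S) {x : Ω}
    (hxP : x ∈ P) (hxA : x ∉ A) {a : Ω} (ha : a ∈ A) :
    a ∈ normalizerIn S P ↔ a⁻¹ * (x * a * x⁻¹) ∈ P ⊓ A := by
  have := finite_of_le r.lt.le
  have hxS := r.lt.le hxP
  have hdA : a⁻¹ * (x * a * x⁻¹) ∈ A := A.mul_mem (A.inv_mem ha) (c.conj_mem hxS ha)
  constructor
  · intro h
    refine ⟨?_, hdA⟩
    have h1 := P.mul_mem (normalizerIn_conj_inv h hxP) (P.inv_mem hxP)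
    rwa [show a⁻¹ * (x * a * x⁻¹) = a⁻¹ * x * a * x⁻¹ by group]
  · intro h
    refine mem_normalizerIn_of_conj (c.le ha) fun y hy => ?_
    have hgen : P ≤ P.comap (MulAut.conj a).toMonoidHom := by
      conv_lhs => rw [r.eq_sup c hxP hxA]
      refine sup_le (fun b hb => ?_) (Subgroup.zpowers_le.2 ?_)
      · show a * b * a⁻¹ ∈ P
        rw [c.comm a ha b hb.2, mul_inv_cancel_right]
        exact hb.1
      · show a * x * a⁻¹ ∈ P
        have e : a * x * a⁻¹ = (a⁻¹ * (x * a * x⁻¹))⁻¹ * x := by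
          have h2 := c.comm a⁻¹ (A.inv_mem ha) _ (c.conj_mem hxS ha)
          rw [h2]
          group
        rw [e]
        exact P.mul_mem (P.inv_mem h.1) hxP
    exact hgen hy

/-- Nonabelian type: `P ⊓ A` is the set of elements displaced into the centre and has the centre with index `p`. -/
theorem Rad.nonabelian (r : Rad F p P) (c : Ctx S A p) (hna : ¬ IsMulCommutative S) {x : Ω}
    (hxP : x ∈ P) (hxA : x ∉ A) (hnc : ¬ ∀ a ∈ P ⊓ A, x * a = a * x) :
    P ⊓ A = c.W2 (r.lt.le hxP) ∧ Nat.card ↥(P ⊓ A) = p * Nat.card (Zs S) := by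
  have hxS := r.lt.le hxP
  have := finite_of_le r.lt.le
  have := finite_of_le c.le
  have hp : p.Prime := Fact.out
  have hZP : Zs S ≤ P ⊓ A := r.inf_ge c hna
  -- some automorphism moves `P ⊓ A`
  obtain ⟨α, hα, u, hu, huA⟩ : ∃ α ∈ F.autGroup P, ∃ u ∈ P ⊓ A, autFn α u ∉ A := by
    by_contra hne
    have hinv : ∀ α ∈ F.autGroup P, ∀ u ∈ P ⊓ A, autFn α u ∈ P ⊓ A := fun α hα u hu =>
      ⟨autFn_mem α hu.1, by
        by_contra h
        exact hne ⟨α, hα, u, hu, h⟩⟩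
    obtain ⟨g, hg, hgP⟩ := SetLike.exists_of_lt (lt_normalizerIn c.pgroup le_rfl r.lt)
    obtain ⟨a, ha, i, e⟩ := c.exists_mul hxS hxA hg.1
    have haN : a ∈ normalizerIn S P := by
      rw [show a = g * (x ^ i)⁻¹ by rw [e]; group]
      exact mul_mem hg (inv_mem (zpow_mem (le_normalizerIn r.lt.le hxP) i))
    refine hgP ?_
    rw [e]
    refine P.mul_mem (r.mem_of_stab c.pgroup inf_le_left hinv haN (fun w hw => ?_) fun y hy => ?_)
      (P.zpow_mem hxP i)
    · rw [c.comm a ha w hw.2, mul_inv_cancel_right]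
    · refine ⟨P.mul_mem (P.inv_mem hy) (normalizerIn_conj haN hy), ?_⟩
      have h1 := A.mul_mem (c.conj_mem (S.inv_mem (r.lt.le hy)) ha) (A.inv_mem ha)
      rwa [show y⁻¹ * (a * y * a⁻¹) = y⁻¹ * a * y⁻¹⁻¹ * a⁻¹ by group]
  -- the intersection with the image is central
  have hm := (isIso_autFn r.lt.le hα)
  have hB : Nat.card ↥(P ⊓ A) ≤ p * Nat.card (Zs S) := by
    have hBle : img (autFn α) (P ⊓ A) ≤ S := (hm.1.mono inf_le_left).img_le_S
    have hc1 := c.card_inf hBle (hm.1.mem_img hu) huA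
    rw [hm.1.card_img inf_le_left] at hc1
    rw [hc1]
    refine Nat.mul_le_mul_left p ?_
    haveI : Finite (Zs S) := finite_of_le (FusionAbelianIndex.Zs_le S)
    refine Subgroup.card_le_of_le fun z hz => (r.center_eq c hna hxP hxA hnc).1 ?_
    obtain ⟨hzB, hzA⟩ := hz
    obtain ⟨w, hw, e⟩ := (hm.1.mem_img_iff inf_le_left).1 hzB
    have hzP : z ∈ P := e ▸ autFn_mem α hw.1
    refine ⟨hzP, fun y hy => ?_⟩
    have hP2 : P ≤ Subgroup.centralizer {z} := by
      conv_lhs => rw [r.eq_sup c (autFn_mem α hu.1) huA]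
      refine sup_le (fun b hb => Subgroup.mem_centralizer_singleton_iff.2 (c.comm b hb.2 z hzA))
        (Subgroup.zpowers_le.2 (Subgroup.mem_centralizer_singleton_iff.2 ?_))
      rw [← e, ← hm.1.map_mul hu.1 hw.1, ← hm.1.map_mul hw.1 hu.1, c.comm u hu.2 w hw.2]
    exact Subgroup.mem_centralizer_singleton_iff.1 (hP2 hy)
  haveI : Finite (Zs S) := finite_of_le (FusionAbelianIndex.Zs_le S)
  haveI : Finite ↥(P ⊓ A) := finite_of_le (inf_le_right.trans c.le)
  have hlt : Zs S < P ⊓ A := by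
    refine lt_of_le_of_ne hZP fun he => hnc fun a ha => ?_
    rw [← he] at ha
    exact (mem_Zs.1 ha).2 x hxS
  have hcard : Nat.card ↥(P ⊓ A) = p * Nat.card (Zs S) := by
    refine le_antisymm hB ?_
    obtain ⟨k, hk⟩ := IsPGroup.iff_card.1 (c.pgroup.to_le (hlt.le.trans (inf_le_right.trans c.le)))
    obtain ⟨l, hl⟩ := IsPGroup.iff_card.1 (c.pgroup.to_le (inf_le_right.trans c.le : P ⊓ A ≤ S))
    have h1 : Nat.card (Zs S) < Nat.card ↥(P ⊓ A) :=
      lt_of_le_of_ne (Subgroup.card_le_of_le hlt.le) fun he =>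
        hlt.ne (eq_of_le_of_card (inf_le_right.trans c.le) hlt.le he.ge)
    rw [hk, hl] at h1
    rw [hk, hl, ← pow_succ']
    exact Nat.pow_le_pow_right hp.pos ((Nat.pow_lt_pow_iff_right hp.one_lt).1 h1)
  refine ⟨le_antisymm (fun a ha => ?_) fun a ha => ?_, hcard⟩
  · -- the quotient of order `p` is centralized by `x`
    refine (c.mem_W2 hxS).2 ⟨ha.2, ?_⟩
    by_contra hd
    let ψ : ↥(P ⊓ A) →* A := (c.d hxS).comp (Subgroup.inclusion inf_le_right)
    have hrange : ψ.range.map A.subtype ≤ P ⊓ A := by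
      rintro _ ⟨_, ⟨b, rfl⟩, rfl⟩
      have hb1 : (b : Ω) ∈ P := b.2.1
      exact ⟨P.mul_mem (P.inv_mem hb1) (P.mul_mem (P.mul_mem hxP hb1) (P.inv_mem hxP)),
        A.mul_mem (A.inv_mem b.2.2) (c.conj_mem hxS b.2.2)⟩
    -- the displacement is nilpotent
    have hker : ψ.ker = (Zs S).subgroupOf (P ⊓ A) := by
      ext b
      rw [MonoidHom.mem_ker, MonoidHom.comp_apply, ← MonoidHom.mem_ker, c.ker_d hna hxS hxA]
      rfl
    have hcr : Nat.card (ψ.range.map A.subtype) = p := by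
      rw [Subgroup.card_map_of_injective A.subtype_injective, ← Subgroup.index_ker]
      have h1 := ψ.ker.card_mul_index
      rw [hcard, hker, Nat.card_congr (Subgroup.subgroupOfEquivOfLe hZP).toEquiv, mul_comm p] at h1
      rw [hker]
      exact Nat.eq_of_mul_eq_mul_left Nat.card_pos h1
    set Y := ψ.range.map A.subtype with hY
    have hYS : Y ≤ S := hrange.trans (inf_le_right.trans c.le)
    haveI := finite_of_le hYS
    have hYcyc : IsCyclic Y := isCyclic_of_prime_card hcr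
    -- `x` centralizes a subgroup of order `p` it normalizes
    have hxY : ∀ y ∈ Y, x * y * x⁻¹ ∈ Y := by
      rintro _ ⟨_, ⟨b, rfl⟩, rfl⟩
      refine ⟨_, ⟨⟨x * b * x⁻¹, P.mul_mem (P.mul_mem hxP b.2.1) (P.inv_mem hxP), c.conj_mem hxS b.2.2⟩, rfl⟩, ?_⟩
      show (x * (b : Ω) * x⁻¹)⁻¹ * (x * (x * b * x⁻¹) * x⁻¹) = x * ((b : Ω)⁻¹ * (x * b * x⁻¹)) * x⁻¹
      group
    have hxN : x ∈ normalizerIn S Y := mem_normalizerIn_of_conj hxS hxY
    haveI : Finite (normalizerIn S Y) := finite_of_le inf_le_left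
    haveI := finite_mulAut hYS
    obtain ⟨j, hj⟩ := IsPGroup.iff_orderOf.mp (c.pgroup.to_le inf_le_left : IsPGroup p (normalizerIn S Y)) ⟨x, hxN⟩
    have h2 : orderOf (normConj S Y ⟨x, hxN⟩) ∣ p - 1 := by
      refine (orderOf_dvd_natCard _).trans ?_
      rw [IsCyclic.card_mulAut, hcr, Nat.totient_prime hp]
    have h3 : (p - 1).Coprime (p ^ j) :=
      ((hp.coprime_iff_not_dvd.2 (Nat.not_dvd_of_pos_of_lt (Nat.sub_pos_of_lt hp.one_lt)
        (Nat.sub_lt hp.pos Nat.one_pos))).pow_left j).symm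
    have h4 := orderOf_eq_one_iff.1
      (Nat.eq_one_of_dvd_coprimes h3 h2 (hj ▸ orderOf_map_dvd (normConj S Y) ⟨x, hxN⟩))
    have hY2 : Y ≤ Zs S := by
      intro y hy
      have h5 := congrArg Subtype.val (DFunLike.congr_fun h4 (⟨y, hy⟩ : Y))
      rw [normConj_apply, MulAut.one_apply] at h5
      have h6 : (⟨y, (hrange hy).2⟩ : A) ∈ (c.d hxS).ker := by
        rw [MonoidHom.mem_ker, c.d_eq_one]
        exact mul_inv_eq_iff_eq_mul.1 h5
      rw [c.ker_d hna hxS hxA] at h6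
      exact h6
    exact hd (hY2 ⟨_, ⟨⟨a, ha⟩, rfl⟩, rfl⟩)
  · obtain ⟨haA, hd⟩ := (c.mem_W2 hxS).1 ha
    have haN : a ∈ normalizerIn S P := (r.mem_normalizer_iff c hna hxP hxA haA).2 (hZP hd)
    refine ⟨r.mem_of_stab c.pgroup r.zs_le (r.zs_invariant c hna hxP hxA hnc) haN
      (fun u hu => by rw [(mem_Zs.1 hu).2 a (c.le haA), mul_inv_cancel_right]) ?_, haA⟩
    -- `a` moves every element of `P` by a central element
    intro y hy
    let T : Subgroup Ω :=
      { carrier := {y | y ∈ S ∧ y⁻¹ * (a * y * a⁻¹) ∈ Zs S}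
        one_mem' := ⟨one_mem _, by simp⟩
        mul_mem' := by
          rintro y z ⟨hy, hy'⟩ ⟨hz, hz'⟩
          refine ⟨mul_mem hy hz, ?_⟩
          have e : (y * z)⁻¹ * (a * (y * z) * a⁻¹) =
              z⁻¹ * (y⁻¹ * (a * y * a⁻¹)) * (a * z * a⁻¹) := by group
          rw [e, (mem_Zs.1 hy').2 _ (inv_mem hz), mul_assoc]
          exact (Zs S).mul_mem hy' hz'
        inv_mem' := by
          rintro y ⟨hy, hy'⟩
          refine ⟨inv_mem hy, ?_⟩
          have h1 := (Zs S).inv_mem hy'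
          have e : y⁻¹⁻¹ * (a * y⁻¹ * a⁻¹) = y * (y⁻¹ * (a * y * a⁻¹))⁻¹ * y⁻¹ := by group
          rw [e, (mem_Zs.1 h1).2 y hy, mul_inv_cancel_right]
          exact h1 }
    have hT : P ≤ T := by
      conv_lhs => rw [r.eq_sup c hxP hxA]
      refine sup_le (fun b hb => ⟨c.le hb.2, ?_⟩) (Subgroup.zpowers_le.2 ⟨hxS, ?_⟩)
      · rw [c.comm a haA b hb.2, mul_inv_cancel_right, inv_mul_cancel]
        exact one_mem _
      · have h1 := (mem_Zs.1 ((Zs S).inv_mem hd)).2 x⁻¹ (S.inv_mem hxS)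
        have e : x⁻¹ * (a * x * a⁻¹) = (a⁻¹ * (x * a * x⁻¹))⁻¹ := by
          calc x⁻¹ * (a * x * a⁻¹)
              = x⁻¹ * (a * (a⁻¹ * (x * a * x⁻¹))⁻¹ * a⁻¹) * x := by group
            _ = x⁻¹ * (a⁻¹ * (x * a * x⁻¹))⁻¹ * x := by
              rw [(mem_Zs.1 ((Zs S).inv_mem hd)).2 a (c.le haA), mul_inv_cancel_right]
            _ = _ := by rw [h1, inv_mul_cancel_right]
        rw [e]
        exact (Zs S).inv_mem hd
    exact (hT hy).2

/-- The index of a subgroup in its normalizer, from the parts inside `A`. -/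
theorem Rad.index_normalizer (r : Rad F p P) (c : Ctx S A p) {x : Ω} (hxP : x ∈ P) (hxA : x ∉ A)
    (h : Nat.card ↥(normalizerIn S P ⊓ A) = p * Nat.card ↥(P ⊓ A)) :
    (P.subgroupOf (normalizerIn S P)).index = p := by
  have hPN : P ≤ normalizerIn S P := le_normalizerIn r.lt.le
  have := finite_of_le r.lt.le
  have h1 := c.card_inf r.lt.le hxP hxA
  have h2 : Nat.card (normalizerIn S P) = p * Nat.card ↥(normalizerIn S P ⊓ A) :=
    c.card_inf (inf_le_left : normalizerIn S P ≤ S) (hPN hxP) hxA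
  have h3 := (P.subgroupOf (normalizerIn S P)).card_mul_index
  rw [Nat.card_congr (Subgroup.subgroupOfEquivOfLe hPN).toEquiv, h2, h, ← h1] at h3
  exact Nat.eq_of_mul_eq_mul_left Nat.card_pos (h3.trans (mul_comm p _))

/-- Nonabelian type: the index in the normalizer. -/
theorem Rad.nonabelian_index (r : Rad F p P) (c : Ctx S A p) (hna : ¬ IsMulCommutative S) {x : Ω}
    (hxP : x ∈ P) (hxA : x ∉ A) (hnc : ¬ ∀ a ∈ P ⊓ A, x * a = a * x) :
    (P.subgroupOf (normalizerIn S P)).index = p := by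
  obtain ⟨hW, hcard⟩ := r.nonabelian c hna hxP hxA hnc
  have hxS := r.lt.le hxP
  have hp : p.Prime := Fact.out
  haveI := finite_of_le c.le
  refine r.index_normalizer c hxP hxA ?_
  have hle : P ⊓ A ≤ normalizerIn S P ⊓ A := inf_le_inf_right A (le_normalizerIn r.lt.le)
  haveI : Finite ↥(normalizerIn S P ⊓ A) := finite_of_le (inf_le_right.trans c.le)
  haveI : Finite ↥(P ⊓ A) := finite_of_le (inf_le_right.trans c.le)
  haveI : ((Zs S).subgroupOf A).Normal := c.ker_d hna hxS hxA ▸ (c.d hxS).normal_ker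
  let ψ : ↥(normalizerIn S P ⊓ A) →* A ⧸ (Zs S).subgroupOf A :=
    (QuotientGroup.mk' _).comp ((c.d hxS).comp (Subgroup.inclusion inf_le_right))
  have hker : ψ.ker = (P ⊓ A).subgroupOf (normalizerIn S P ⊓ A) := by
    ext b
    rw [MonoidHom.mem_ker, Subgroup.mem_subgroupOf, hW, c.mem_W2]
    exact ⟨fun h => ⟨b.2.2, Subgroup.mem_subgroupOf.1
        ((QuotientGroup.eq_one_iff (c.d hxS (Subgroup.inclusion inf_le_right b))).1 h)⟩,
      fun h => (QuotientGroup.eq_one_iff (c.d hxS (Subgroup.inclusion inf_le_right b))).2 (Subgroup.mem_subgroupOf.2 h.2)⟩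
  have hcr : Nat.card ψ.range ≤ p := by
    have hsub : ψ.range ≤ ((P ⊓ A).subgroupOf A).map (QuotientGroup.mk' _) := by
      rintro _ ⟨b, rfl⟩
      exact ⟨_, Subgroup.mem_subgroupOf.2 ((r.mem_normalizer_iff c hna hxP hxA b.2.2).1 b.2.1), rfl⟩
    refine (Subgroup.card_le_of_le hsub).trans ?_
    let q := (QuotientGroup.mk' ((Zs S).subgroupOf A)).comp ((P ⊓ A).subgroupOf A).subtype
    have hq : q.range = ((P ⊓ A).subgroupOf A).map (QuotientGroup.mk' _) := by
      rw [MonoidHom.range_comp, Subgroup.range_subtype]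
    have h1 := q.ker.card_mul_index
    rw [Subgroup.index_ker, hq, Nat.card_congr (Subgroup.subgroupOfEquivOfLe
      (inf_le_right : P ⊓ A ≤ A)).toEquiv, hcard] at h1
    have h2 : Nat.card (Zs S) ≤ Nat.card q.ker := by
      refine Nat.card_le_card_of_injective (fun z => ⟨⟨⟨z, c.Zs_le hna z.2⟩,
        Subgroup.mem_subgroupOf.2 (r.inf_ge c hna z.2)⟩, (QuotientGroup.eq_one_iff _).2 z.2⟩) fun z w e => ?_
      exact Subtype.ext (congrArg (fun t : q.ker => (((t : (P ⊓ A).subgroupOf A) : A) : Ω)) e)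
    haveI : Finite (Zs S) := finite_of_le (FusionAbelianIndex.Zs_le S)
    have h3 := Nat.mul_le_mul_right (Nat.card (((P ⊓ A).subgroupOf A).map (QuotientGroup.mk' ((Zs S).subgroupOf A)))) h2
    rw [h1, mul_comm p] at h3
    exact Nat.le_of_mul_le_mul_left h3 Nat.card_pos
  have h1 := ψ.ker.card_mul_index
  rw [Subgroup.index_ker, hker, Nat.card_congr (Subgroup.subgroupOfEquivOfLe hle).toEquiv] at h1
  -- the normalizer is larger
  obtain ⟨g, hg, hgP⟩ := SetLike.exists_of_lt (lt_normalizerIn c.pgroup le_rfl r.lt)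
  obtain ⟨a, ha, i, e⟩ := c.exists_mul hxS hxA hg.1
  have haN : a ∈ normalizerIn S P := by
    rw [show a = g * (x ^ i)⁻¹ by rw [e]; group]
    exact mul_mem hg (inv_mem (zpow_mem (le_normalizerIn r.lt.le hxP) i))
  have hlt : P ⊓ A < normalizerIn S P ⊓ A := by
    refine lt_of_le_of_ne hle fun he => hgP ?_
    have : a ∈ P ⊓ A := he ▸ ⟨haN, ha⟩
    rw [e]
    exact P.mul_mem this.1 (P.zpow_mem hxP i)
  have hge : p * Nat.card ↥(P ⊓ A) ≤ Nat.card ↥(normalizerIn S P ⊓ A) := by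
    obtain ⟨k, hk⟩ := IsPGroup.iff_card.1 (c.pgroup.to_le (inf_le_right.trans c.le : P ⊓ A ≤ S))
    obtain ⟨l, hl⟩ := IsPGroup.iff_card.1 (c.pgroup.to_le (inf_le_right.trans c.le : normalizerIn S P ⊓ A ≤ S))
    have h2 : Nat.card ↥(P ⊓ A) < Nat.card ↥(normalizerIn S P ⊓ A) :=
      lt_of_le_of_ne (Subgroup.card_le_of_le hle) fun he =>
        hlt.ne (eq_of_le_of_card (inf_le_right.trans c.le) hle he.ge)
    rw [hk, hl] at h2
    rw [hk, hl, ← pow_succ']
    exact Nat.pow_le_pow_right hp.pos ((Nat.pow_lt_pow_iff_right hp.one_lt).1 h2)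
  refine le_antisymm ?_ hge
  rw [← h1, mul_comm]
  exact Nat.mul_le_mul_right _ hcr

end Cfsg.Agent.FusionAbelianIndex
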