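import Cfsg.Agent.Lib.FusionAbelianIndex.Classify

/-
# Automorphisms of the abelian radical subgroups
-/

namespace Cfsg.Agent.FusionAbelianIndex

open Cfsg Cfsg.FusionSystem Cfsg.Agent Cfsg.Agent.Fusion Cfsg.Agent.FusionChain Cfsg.Agent.FusionSparse

variable {Ω : Type*} [Group Ω] {S A P : Subgroup Ω} {F : FusionSystem S} {p : ℕ} [Finite S] [Fact p.Prime]

/-- An abelian centric radical subgroup outside `A`. -/
structure AbRad (F : FusionSystem S) (c : Ctx S A p) (P : Subgroup Ω) (x : Ω) : Prop where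
  rad : Rad F p P
  hna : ¬ IsMulCommutative S
  hxP : x ∈ P
  hxA : x ∉ A
  hcm : ∀ a ∈ P ⊓ A, x * a = a * x
  hsat : F.IsSaturated p

variable {c : Ctx S A p} {x : Ω}

theorem AbRad.hxS (b : AbRad F c P x) : x ∈ S := b.rad.lt.le b.hxP

theorem AbRad.inf_eq (b : AbRad F c P x) : P ⊓ A = Zs S :=
  b.rad.inf_eq_of_comm c b.hna b.hxP b.hxA b.hcm

theorem AbRad.comm (b : AbRad F c P x) : ∀ y ∈ P, ∀ z ∈ P, y * z = z * y :=
  b.rad.comm_outside c b.hxP b.hxA b.hcm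

theorem AbRad.mem_normalizer_iff (b : AbRad F c P x) {a : Ω} (ha : a ∈ A) :
    a ∈ normalizerIn S P ↔ a⁻¹ * (x * a * x⁻¹) ∈ Zs S := by
  rw [b.rad.mem_normalizer_iff c b.hna b.hxP b.hxA ha, b.inf_eq]

theorem AbRad.normalizer_inf (b : AbRad F c P x) : normalizerIn S P ⊓ A = c.W2 b.hxS := by
  ext a
  rw [Subgroup.mem_inf, c.mem_W2]
  exact ⟨fun h => ⟨h.2, (b.mem_normalizer_iff h.2).1 h.1⟩, fun h => ⟨(b.mem_normalizer_iff h.1).2 h.2, h.1⟩⟩

theorem AbRad.card_P (b : AbRad F c P x) : Nat.card P = p * Nat.card (Zs S) := by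
  rw [c.card_inf b.rad.lt.le b.hxP b.hxA, b.inf_eq]

/-- An element of `A` displaced into `Zs S` moves every element of `P` inside `Zs S ⊓ R`. -/
theorem AbRad.disp_mem (b : AbRad F c P x) {a : Ω} (ha : a ∈ c.W2 b.hxS) {y : Ω} (hy : y ∈ P) :
    y⁻¹ * (a * y * a⁻¹) ∈ Zs S ⊓ c.R b.hxS := by
  obtain ⟨haA, hd⟩ := (c.mem_W2 b.hxS).1 ha
  have hdR : a⁻¹ * (x * a * x⁻¹) ∈ c.R b.hxS := ⟨_, ⟨⟨a, haA⟩, rfl⟩, rfl⟩
  let T : Subgroup Ω :=
    { carrier := {y | y ∈ S ∧ y⁻¹ * (a * y * a⁻¹) ∈ Zs S ⊓ c.R b.hxS}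
      one_mem' := ⟨one_mem _, by simp⟩
      mul_mem' := by
        rintro y z ⟨hy, hy'⟩ ⟨hz, hz'⟩
        refine ⟨mul_mem hy hz, ?_⟩
        have e : (y * z)⁻¹ * (a * (y * z) * a⁻¹) =
            z⁻¹ * (y⁻¹ * (a * y * a⁻¹)) * (a * z * a⁻¹) := by group
        rw [e, (mem_Zs.1 hy'.1).2 _ (inv_mem hz), mul_assoc]
        exact mul_mem hy' hz'
      inv_mem' := by
        rintro y ⟨hy, hy'⟩
        refine ⟨inv_mem hy, ?_⟩
        have h1 := inv_mem hy'
        have e : y⁻¹⁻¹ * (a * y⁻¹ * a⁻¹) = y * (y⁻¹ * (a * y * a⁻¹))⁻¹ * y⁻¹ := by group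
        rw [e, (mem_Zs.1 h1.1).2 y hy, mul_inv_cancel_right]
        exact h1 }
  have hT : P ≤ T := by
    conv_lhs => rw [b.rad.eq_sup c b.hxP b.hxA]
    refine sup_le (fun w hw => ⟨c.le hw.2, ?_⟩) (Subgroup.zpowers_le.2 ⟨b.hxS, ?_⟩)
    · rw [c.comm a haA w hw.2, mul_inv_cancel_right, inv_mul_cancel]
      exact one_mem _
    · have h1 := (mem_Zs.1 ((Zs S).inv_mem hd)).2 x⁻¹ (S.inv_mem b.hxS)
      have e : x⁻¹ * (a * x * a⁻¹) = (a⁻¹ * (x * a * x⁻¹))⁻¹ := by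
        calc x⁻¹ * (a * x * a⁻¹)
            = x⁻¹ * (a * (a⁻¹ * (x * a * x⁻¹))⁻¹ * a⁻¹) * x := by group
          _ = x⁻¹ * (a⁻¹ * (x * a * x⁻¹))⁻¹ * x := by
            rw [(mem_Zs.1 ((Zs S).inv_mem hd)).2 a (c.le haA), mul_inv_cancel_right]
          _ = _ := by rw [h1, inv_mul_cancel_right]
      rw [e]
      exact inv_mem ⟨hd, hdR⟩
  exact (hT hy).2

theorem AbRad.fix_zs (b : AbRad F c P x) {g z : Ω} (hg : g ∈ S) (hz : z ∈ Zs S) : g * z * g⁻¹ = z := by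
  have := b.hxS
  rw [(mem_Zs.1 hz).2 g hg, mul_inv_cancel_right]

theorem AbRad.fix_of_autS (b : AbRad F c P x) {t : MulAut P} (ht : t ∈ autInducedBy S P) {z : Ω}
    (hz : z ∈ Zs S) : autFn t z = z := by
  obtain ⟨g, hg, e⟩ := mem_autInducedBy_iff.1 ht
  rw [autFn_apply t (b.rad.zs_le hz), e ⟨z, b.rad.zs_le hz⟩]
  exact b.fix_zs hg hz

theorem AbRad.exists_not_mem (b : AbRad F c P x) : ∃ a ∈ c.W2 b.hxS, a ∉ P := by
  obtain ⟨g, hg, hgP⟩ := SetLike.exists_of_lt (lt_normalizerIn c.pgroup le_rfl b.rad.lt)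
  obtain ⟨a, ha, i, e⟩ := c.exists_mul b.hxS b.hxA hg.1
  have haN : a ∈ normalizerIn S P := by
    rw [show a = g * (x ^ i)⁻¹ by rw [e]; group]
    exact mul_mem hg (inv_mem (zpow_mem (le_normalizerIn b.rad.lt.le b.hxP) i))
  refine ⟨a, b.normalizer_inf.le ⟨haN, ha⟩, fun h => hgP ?_⟩
  rw [e]
  exact P.mul_mem h (P.zpow_mem b.hxP i)

theorem AbRad.exists_moving (b : AbRad F c P x) :
    ∃ γ ∈ F.autGroup P, ∃ z ∈ Zs S, autFn γ z ∉ Zs S := by
  by_contra hne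
  obtain ⟨a, ha, haP⟩ := b.exists_not_mem
  have haN : a ∈ normalizerIn S P ⊓ A := b.normalizer_inf.ge ha
  refine haP (b.rad.mem_of_stab c.pgroup b.rad.zs_le (fun α hα u hu => ?_) haN.1
    (fun u hu => b.fix_zs (c.le haN.2) hu) fun y hy => (b.disp_mem ha hy).1)
  by_contra h
  exact hne ⟨α, hα, u, hu, h⟩

/-- The part of `Zs S` fixed by a second Sylow subgroup of the automizer. -/
noncomputable def fixedPart (S : Subgroup Ω) {P : Subgroup Ω} (γ : MulAut P) : Subgroup Ω := Zs S ⊓ img (autFn γ) (Zs S)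

/-- An automorphism fixing `D ≤ Zs S` and trivial modulo it is induced by `S`. -/
theorem AbRad.kernel_le (b : AbRad F c P x) {D : Subgroup Ω} (hD : D ≤ Zs S) {α : MulAut P}
    (hα : α ∈ F.autGroup P) (h1 : ∀ d ∈ D, autFn α d = d) (h2 : ∀ y ∈ P, y⁻¹ * autFn α y ∈ D) :
    α ∈ autInducedBy S P := by
  have hDP : D ≤ P := hD.trans b.rad.zs_le
  have := finite_of_le b.rad.lt.le
  have := finite_mulAut b.rad.lt.le
  let G : Subgroup (MulAut P) :=
    { carrier := {a | a ∈ F.autGroup P ∧ ∀ d ∈ D, autFn a d = d}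
      one_mem' := ⟨one_mem _, fun d hd => autFn_one (hDP hd)⟩
      mul_mem' := fun {a b'} ha hb => ⟨mul_mem ha.1 hb.1, fun d hd => by
        rw [autFn_mul_comp _ _ (hDP hd), hb.2 d hd, ha.2 d hd]⟩
      inv_mem' := fun {a} ha => ⟨inv_mem ha.1, fun d hd => by
        conv_lhs => rw [← ha.2 d hd]
        rw [← autFn_mul_comp _ _ (hDP hd), inv_mul_cancel, autFn_one (hDP hd)]⟩ }
  let K : Subgroup (MulAut P) :=
    { carrier := {a | a ∈ G ∧ ∀ y ∈ P, y⁻¹ * autFn a y ∈ D}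
      one_mem' := ⟨one_mem _, fun y hy => by rw [autFn_one hy, inv_mul_cancel]; exact one_mem _⟩
      mul_mem' := fun {a b'} ha hb => ⟨mul_mem ha.1 hb.1, fun y hy => by
        rw [autFn_mul_comp _ _ hy]
        have h := mul_mem (hb.2 y hy) (ha.2 _ (autFn_mem b' hy))
        rwa [mul_assoc, mul_inv_cancel_left] at h⟩
      inv_mem' := fun {a} ha => ⟨inv_mem ha.1, fun y hy => by
        have h := ha.2 _ (autFn_mem a⁻¹ hy)
        rw [← autFn_mul_comp _ _ hy, mul_inv_cancel, autFn_one hy] at h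
        have h' := inv_mem h
        rwa [mul_inv_rev, inv_inv] at h'⟩ }
  have hTG : autInducedBy S P ≤ G := fun t ht =>
    ⟨autInducedBy_le_autGroup F le_rfl b.rad.lt.le ht, fun d hd => b.fix_of_autS ht (hD hd)⟩
  have hKp : IsPGroup p K := isPGroup_of_coprime_trivial fun g hg => by
    refine Subtype.ext (MulEquiv.ext fun y => ?_)
    refine eq_self_of_stab (c.pgroup.to_le b.rad.lt.le) (g : MulAut P) (by rwa [Subgroup.orderOf_coe])
      (D.subgroupOf P) (fun u hu => Subtype.ext ?_) y ?_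
    · have := g.2.1.2 u hu
      rwa [autFn_apply _ u.2] at this
    · have := g.2.2 y y.2
      rw [autFn_apply _ y.2] at this
      exact Subgroup.mem_subgroupOf.2 this
  have hsyl : IsSylowIn p (autInducedBy S P) G :=
    ((isFullyAutomized_iff.1 (fullyAutomized_of_fullyNormalized c.pgroup b.hsat b.rad.fn)).2).mono hTG
      fun a ha => ha.1
  obtain ⟨a, ha, hconj⟩ := hsyl.exists_conj_le hKp fun k hk => hk.1
  have hαK : α ∈ K := ⟨⟨hα, h1⟩, h2⟩
  have hmem : a⁻¹ * α * a ∈ K := by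
    refine ⟨mul_mem (mul_mem (inv_mem ha) hαK.1) ha, fun y hy => ?_⟩
    rw [autFn_mul_comp _ _ hy, autFn_mul_comp _ _ (autFn_mem a hy)]
    have h := h2 _ (autFn_mem a hy)
    have hm := (isIso_autFn b.rad.lt.le (inv_mem ha.1)).1
    have e : y = autFn a⁻¹ (autFn a y) := by
      rw [← autFn_mul_comp _ _ hy, inv_mul_cancel, autFn_one hy]
    have key : y⁻¹ * autFn a⁻¹ (autFn α (autFn a y)) ∈ D := by
      have h' : (autFn a⁻¹ (autFn a y))⁻¹ * autFn a⁻¹ (autFn α (autFn a y)) ∈ D := by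
        rw [← hm.map_inv (autFn_mem a hy), ← hm.map_mul (P.inv_mem (autFn_mem a hy)) (autFn_mem α (autFn_mem a hy)),
          (inv_mem ha : a⁻¹ ∈ G).2 _ h]
        exact h
      rwa [← e] at h'
    exact key
  have h3 := hconj _ hmem
  simpa [mul_assoc] using h3

/-- An automorphism fixing `D`, trivial modulo it, with a conjugate of it doing the same, is trivial. -/
theorem AbRad.kernel_eq_one (b : AbRad F c P x) {γ : MulAut P} (hγ : γ ∈ F.autGroup P) {z₀ : Ω}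
    (hz₀ : z₀ ∈ Zs S) (hmove : autFn γ z₀ ∉ Zs S) {α : MulAut P} (hα : α ∈ F.autGroup P)
    (h1 : ∀ d ∈ fixedPart S γ, autFn α d = d) (h2 : ∀ y ∈ P, y⁻¹ * autFn α y ∈ fixedPart S γ) : α = 1 := by
  have hm := isIso_autFn b.rad.lt.le hγ
  have hZP := b.rad.zs_le
  have hαT := b.kernel_le inf_le_left hα h1 h2
  let D' : Subgroup Ω := Zs S ⊓ img (autFn γ⁻¹) (Zs S)
  have hm' := isIso_autFn b.rad.lt.le (inv_mem hγ)
  have hback : ∀ {y}, y ∈ P → autFn γ⁻¹ (autFn γ y) = y := fun {y} hy => by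
    rw [← autFn_mul_comp _ _ hy, inv_mul_cancel, autFn_one hy]
  have hforth : ∀ {y}, y ∈ P → autFn γ (autFn γ⁻¹ y) = y := fun {y} hy => by
    rw [← autFn_mul_comp _ _ hy, mul_inv_cancel, autFn_one hy]
  have hDiff : ∀ {y}, y ∈ P → (y ∈ D' ↔ autFn γ y ∈ fixedPart S γ) := by
    intro y hy
    constructor
    · rintro ⟨hy1, hy2⟩
      obtain ⟨w, hw, e⟩ := (hm'.1.mem_img_iff hZP).1 hy2
      refine ⟨?_, hm.1.mem_img hy1⟩
      rw [← e, hforth (hZP hw)]
      exact hw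
    · rintro ⟨hy1, hy2⟩
      obtain ⟨w, hw, e⟩ := (hm.1.mem_img_iff hZP).1 hy2
      obtain rfl : w = y := hm.1.inj (hZP hw) hy e
      refine ⟨hw, ?_⟩
      rw [← hback hy]
      exact hm'.1.mem_img hy1
  have hαT' : γ⁻¹ * α * γ ∈ autInducedBy S P := by
    refine b.kernel_le (inf_le_left : D' ≤ Zs S) (mul_mem (mul_mem (inv_mem hγ) hα) hγ) (fun d hd => ?_) fun y hy => ?_
    · have hdP : d ∈ P := hZP hd.1
      rw [autFn_mul_comp _ _ hdP, autFn_mul_comp _ _ (autFn_mem γ hdP), h1 _ ((hDiff hdP).1 hd), hback hdP]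
    · rw [autFn_mul_comp _ _ hy, autFn_mul_comp _ _ (autFn_mem γ hy)]
      have hw := autFn_mem α (autFn_mem γ hy)
      refine (hDiff (P.mul_mem (P.inv_mem hy) (autFn_mem _ hw))).2 ?_
      rw [hm.1.map_mul (P.inv_mem hy) (autFn_mem _ hw), hm.1.map_inv hy, hforth hw]
      exact h2 _ (autFn_mem γ hy)
  -- `α` fixes `Zs S` and its image, which generate `P`
  have hfix : ∀ z ∈ Zs S, autFn α (autFn γ z) = autFn γ z := by
    intro z hz
    have h3 := b.fix_of_autS hαT' hz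
    rw [autFn_mul_comp _ _ (hZP hz), autFn_mul_comp _ _ (autFn_mem γ (hZP hz))] at h3
    have h4 := congrArg (autFn γ) h3
    rwa [hforth (autFn_mem α (autFn_mem γ (hZP hz)))] at h4
  refine MulEquiv.ext fun y => Subtype.ext ?_
  let Fx : Subgroup Ω :=
    { carrier := {y | y ∈ P ∧ autFn α y = y}
      one_mem' := ⟨one_mem _, (isIso_autFn b.rad.lt.le hα).1.map_one⟩
      mul_mem' := fun {u v} hu hv => ⟨mul_mem hu.1 hv.1, by
        rw [(isIso_autFn b.rad.lt.le hα).1.map_mul hu.1 hv.1, hu.2, hv.2]⟩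
      inv_mem' := fun {u} hu => ⟨inv_mem hu.1, by rw [(isIso_autFn b.rad.lt.le hα).1.map_inv hu.1, hu.2]⟩ }
  have h5 : Zs S < Fx := by
    refine lt_of_le_of_ne (fun z hz => ⟨hZP hz, b.fix_of_autS hαT hz⟩) fun he => hmove ?_
    rw [he]
    exact ⟨autFn_mem γ (hZP hz₀), hfix z₀ hz₀⟩
  have h6 : Fx = P := by
    have hFP : Fx ≤ P := fun u hu => hu.1
    refine eq_of_le_of_card b.rad.lt.le hFP ?_
    rw [b.card_P]
    have hFS : Fx ≤ S := hFP.trans b.rad.lt.le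
    haveI := finite_of_le hFS
    obtain ⟨k, hk⟩ := IsPGroup.iff_card.1 (c.pgroup.to_le hFS)
    haveI : Finite (Zs S) := finite_of_le (FusionAbelianIndex.Zs_le S)
    obtain ⟨l, hl⟩ := IsPGroup.iff_card.1 (c.pgroup.to_le (FusionAbelianIndex.Zs_le S))
    have h7 : Nat.card (Zs S) < Nat.card Fx :=
      lt_of_le_of_ne (Subgroup.card_le_of_le h5.le) fun e => h5.ne (eq_of_le_of_card hFS h5.le e.ge)
    rw [hk, hl] at h7
    rw [hk, hl, ← pow_succ']
    exact Nat.pow_le_pow_right (Fact.out : p.Prime).pos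
      ((Nat.pow_lt_pow_iff_right (Fact.out : p.Prime).one_lt).1 h7)
  have h8 : (y : Ω) ∈ Fx := h6.symm ▸ y.2
  rw [MulAut.one_apply]
  exact (autFn_apply α y.2).symm.trans h8.2

/-- An element displacing `P` into the fixed part lies in `P`. -/
theorem AbRad.mem_of_disp (b : AbRad F c P x) {γ : MulAut P} (hγ : γ ∈ F.autGroup P) {z₀ : Ω}
    (hz₀ : z₀ ∈ Zs S) (hmove : autFn γ z₀ ∉ Zs S) {a : Ω} (ha : a ∈ c.W2 b.hxS)
    (h : a⁻¹ * (x * a * x⁻¹) ∈ fixedPart S γ) : a ∈ P := by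
  have haN : a ∈ normalizerIn S P ⊓ A := b.normalizer_inf.ge ha
  set t := normConj S P ⟨a, haN.1⟩ with ht
  have htF : t ∈ F.autGroup P :=
    autInducedBy_le_autGroup F le_rfl b.rad.lt.le ((range_normConj S P).le ⟨_, rfl⟩)
  have et : ∀ y ∈ P, autFn t y = a * y * a⁻¹ := fun y hy => by
    rw [autFn_apply t hy]
    rfl
  have h1 : t = 1 := by
    refine b.kernel_eq_one hγ hz₀ hmove htF (fun d hd => ?_) fun y hy => ?_
    · rw [et d (b.rad.zs_le hd.1)]
      exact b.fix_zs (c.le haN.2) hd.1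
    · rw [et y hy]
      obtain ⟨w, hw, i, e⟩ := c.exists_mul b.hxS b.hxA (b.rad.lt.le hy)
      have hwZ : w ∈ Zs S := by
        rw [← b.inf_eq]
        refine ⟨?_, hw⟩
        rw [show w = y * (x ^ i)⁻¹ by rw [e]; group]
        exact P.mul_mem hy (P.inv_mem (P.zpow_mem b.hxP i))
      have hx1 : a * x * a⁻¹ = (a⁻¹ * (x * a * x⁻¹))⁻¹ * x := by
        have h2 := c.comm a⁻¹ (A.inv_mem haN.2) _ (c.conj_mem b.hxS haN.2)
        rw [h2]
        group
      have hc : Commute (a⁻¹ * (x * a * x⁻¹))⁻¹ x := ((mem_Zs.1 ((Zs S).inv_mem h.1)).2 x b.hxS).symm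
      have hx2 : a * x ^ i * a⁻¹ = ((a⁻¹ * (x * a * x⁻¹))⁻¹) ^ i * x ^ i := by
        rw [← conj_zpow, hx1, hc.mul_zpow]
      have he2 : y⁻¹ * (a * y * a⁻¹) = ((a⁻¹ * (x * a * x⁻¹))⁻¹) ^ i := by
        have h3 : a * w * a⁻¹ = w := b.fix_zs (c.le haN.2) hwZ
        calc y⁻¹ * (a * y * a⁻¹) = (x ^ i)⁻¹ * w⁻¹ * ((a * w * a⁻¹) * (a * x ^ i * a⁻¹)) := by rw [e]; group
          _ = (x ^ i)⁻¹ * (((a⁻¹ * (x * a * x⁻¹))⁻¹) ^ i * x ^ i) := by rw [h3, hx2]; group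
          _ = _ := by rw [(hc.zpow_zpow i i).eq, inv_mul_cancel_left]
      rw [he2]
      exact zpow_mem (inv_mem h) i
  refine mem_of_conj_mem_inn b.rad.cle haN.1.1 b.rad.lt.le (α := t) ?_ fun y => rfl
  rw [h1]
  exact one_mem _

theorem AbRad.fixed_inf_R (b : AbRad F c P x) {γ : MulAut P} (hγ : γ ∈ F.autGroup P) {z₀ : Ω}
    (hz₀ : z₀ ∈ Zs S) (hmove : autFn γ z₀ ∉ Zs S) : fixedPart S γ ⊓ c.R b.hxS = ⊥ := by
  rw [Subgroup.eq_bot_iff_forall]
  rintro w ⟨hwD, hwR⟩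
  obtain ⟨_, ⟨a, rfl⟩, rfl⟩ := hwR
  have ha : (a : Ω) ∈ c.W2 b.hxS := (c.mem_W2 b.hxS).2 ⟨a.2, hwD.1⟩
  have haP := b.mem_of_disp hγ hz₀ hmove ha hwD
  have h1 : (a : Ω) ∈ Zs S := b.inf_eq ▸ ⟨haP, a.2⟩
  show (a : Ω)⁻¹ * (x * a * x⁻¹) = 1
  rw [(mem_Zs.1 h1).2 x b.hxS, mul_inv_cancel_right, inv_mul_cancel]

theorem AbRad.card_zs (b : AbRad F c P x) {γ : MulAut P} (hγ : γ ∈ F.autGroup P) {z₀ : Ω}
    (hz₀ : z₀ ∈ Zs S) (hmove : autFn γ z₀ ∉ Zs S) : Nat.card (Zs S) = p * Nat.card (fixedPart S γ) := by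
  have hm := (isIso_autFn b.rad.lt.le hγ).1
  have hle : img (autFn γ) (Zs S) ≤ P := hm.img_le b.rad.zs_le fun z hz => autFn_mem γ (b.rad.zs_le hz)
  have hzP : autFn γ z₀ ∈ P := autFn_mem γ (b.rad.zs_le hz₀)
  have hzA : autFn γ z₀ ∉ A := fun h => hmove (b.inf_eq ▸ ⟨hzP, h⟩)
  have h1 := c.card_inf (hle.trans b.rad.lt.le) (hm.mem_img hz₀) hzA
  rw [hm.card_img b.rad.zs_le] at h1
  rw [h1]
  have he : img (autFn γ) (Zs S) ⊓ A = fixedPart S γ := by
    refine le_antisymm (fun w hw => ⟨b.inf_eq.le ⟨hle hw.1, hw.2⟩, hw.1⟩) fun w hw => ?_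
    exact ⟨hw.2, c.Zs_le b.hna hw.1⟩
  rw [he]

/-- The structure forced by an abelian radical subgroup. -/
theorem AbRad.facts (b : AbRad F c P x) :
    Nat.card (c.W2 b.hxS) = p * Nat.card (Zs S) ∧ Nat.card ↥(Zs S ⊓ c.R b.hxS) = p ∧
      (P.subgroupOf (normalizerIn S P)).index = p := by
  obtain ⟨γ, hγ, z₀, hz₀, hmove⟩ := b.exists_moving
  have hp : p.Prime := Fact.out
  have hzs := b.card_zs hγ hz₀ hmove
  have hbot := b.fixed_inf_R hγ hz₀ hmove
  haveI : Finite (Zs S) := finite_of_le (FusionAbelianIndex.Zs_le S)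
  haveI : Finite ↥(Zs S ⊓ c.R b.hxS) := finite_of_le (inf_le_left.trans (FusionAbelianIndex.Zs_le S))
  -- the upper bound
  have hup : Nat.card ↥(Zs S ⊓ c.R b.hxS) ≤ p := by
    haveI : ((fixedPart S γ).subgroupOf (Zs S)).Normal := ⟨fun u hu g => by
      have e : g * u * g⁻¹ = u := Subtype.ext (b.fix_zs (mem_Zs.1 g.2).1 u.2)
      rwa [e]⟩
    let q : ↥(Zs S ⊓ c.R b.hxS) →* Zs S ⧸ (fixedPart S γ).subgroupOf (Zs S) :=
      (QuotientGroup.mk' _).comp (Subgroup.inclusion inf_le_left)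
    have hq : Function.Injective q := (injective_iff_map_eq_one q).2 fun u hu => by
      have h1 : (u : Ω) ∈ fixedPart S γ := Subgroup.mem_subgroupOf.1
        ((QuotientGroup.eq_one_iff (Subgroup.inclusion (inf_le_left : Zs S ⊓ c.R b.hxS ≤ Zs S) u)).1 hu)
      have h2 : (u : Ω) ∈ fixedPart S γ ⊓ c.R b.hxS := ⟨h1, u.2.2⟩
      rw [hbot, Subgroup.mem_bot] at h2
      exact Subtype.ext h2
    refine (Nat.card_le_card_of_injective q hq).trans ?_
    have h1 := ((fixedPart S γ).subgroupOf (Zs S)).card_mul_index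
    rw [Nat.card_congr (Subgroup.subgroupOfEquivOfLe (show fixedPart S γ ≤ Zs S from inf_le_left)).toEquiv,
      hzs, mul_comm p, Subgroup.index_eq_card] at h1
    haveI : Finite (fixedPart S γ) := finite_of_le (inf_le_left.trans (FusionAbelianIndex.Zs_le S))
    exact (Nat.eq_of_mul_eq_mul_left Nat.card_pos h1).le
  -- the lower bound
  have hlow : Nat.card ↥(Zs S ⊓ c.R b.hxS) ≠ 1 := by
    intro h1
    obtain ⟨a, ha, haP⟩ := b.exists_not_mem
    obtain ⟨haA, hd⟩ := (c.mem_W2 b.hxS).1 ha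
    have hmem : a⁻¹ * (x * a * x⁻¹) ∈ Zs S ⊓ c.R b.hxS := ⟨hd, ⟨_, ⟨⟨a, haA⟩, rfl⟩, rfl⟩⟩
    rw [Subgroup.card_eq_one.1 h1, Subgroup.mem_bot] at hmem
    exact haP (b.mem_of_disp hγ hz₀ hmove ha (by rw [hmem]; exact one_mem _))
  have hR : Nat.card ↥(Zs S ⊓ c.R b.hxS) = p := by
    obtain ⟨k, hk⟩ := IsPGroup.iff_card.1
      (c.pgroup.to_le (inf_le_left.trans (FusionAbelianIndex.Zs_le S)) : IsPGroup p ↥(Zs S ⊓ c.R b.hxS))
    rw [hk] at hup hlow ⊢
    have h1 : k ≤ 1 := (Nat.pow_le_pow_iff_right hp.one_lt).1 (hup.trans (pow_one p).ge)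
    have h2 : k ≠ 0 := fun h => hlow (by rw [h, pow_zero])
    rw [show k = 1 by omega, pow_one]
  have hW : Nat.card (c.W2 b.hxS) = p * Nat.card (Zs S) := by
    rw [c.card_W2 b.hna b.hxS b.hxA, hR, mul_comm]
  refine ⟨hW, hR, b.rad.index_normalizer c b.hxP b.hxA ?_⟩
  rw [b.normalizer_inf, hW, b.inf_eq]

/-- For odd `p`: an automorphism fixing the fixed part and inverting the rest. -/
theorem AbRad.exists_inverting (b : AbRad F c P x) {γ : MulAut P} (hγ : γ ∈ F.autGroup P) {z₀ : Ω}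
    (hz₀ : z₀ ∈ Zs S) (hmove : autFn γ z₀ ∉ Zs S) :
    ∃ ε ∈ F.autGroup P, (∀ d ∈ fixedPart S γ, autFn ε d = d) ∧
      (∀ v ∈ Zs S ⊓ c.R b.hxS, autFn ε v = v⁻¹) ∧ ∀ y ∈ P, y * autFn ε y ∈ Zs S := by
  obtain ⟨hW, hR, -⟩ := b.facts
  have hp : p.Prime := Fact.out
  have hZP := b.rad.zs_le
  have hmγ := isIso_autFn b.rad.lt.le hγ
  haveI : Finite ↥(Zs S ⊓ c.R b.hxS) := finite_of_le (inf_le_left.trans (FusionAbelianIndex.Zs_le S))
  obtain ⟨v0, hv0⟩ : ∃ v : ↥(Zs S ⊓ c.R b.hxS), v ≠ 1 := by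
    haveI : Nontrivial ↥(Zs S ⊓ c.R b.hxS) := Finite.one_lt_card_iff_nontrivial.1 (by rw [hR]; exact hp.one_lt)
    exact exists_ne 1
  set v : Ω := (v0 : Ω) with hvdef
  have hv : v ∈ Zs S ⊓ c.R b.hxS := v0.2
  have hvne : v ≠ 1 := fun h => hv0 (Subtype.ext h)
  have hvP : v ∈ P := hZP hv.1
  have hvD : v ∉ fixedPart S γ := fun h => hvne (by
    have h2 : v ∈ fixedPart S γ ⊓ c.R b.hxS := ⟨h, hv.2⟩
    rwa [b.fixed_inf_R hγ hz₀ hmove, Subgroup.mem_bot] at h2)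
  -- a second transvection
  obtain ⟨a, ha, haP⟩ := b.exists_not_mem
  have haN : a ∈ normalizerIn S P ⊓ A := b.normalizer_inf.ge ha
  set t := normConj S P ⟨a, haN.1⟩ with ht
  have htS : t ∈ autInducedBy S P := (range_normConj S P).le ⟨_, rfl⟩
  have htF := autInducedBy_le_autGroup F le_rfl b.rad.lt.le htS
  have et : ∀ y ∈ P, autFn t y = a * y * a⁻¹ := fun y hy => by
    rw [autFn_apply t hy]
    rfl
  set l := γ * t * γ⁻¹ with hl
  have hlF : l ∈ F.autGroup P := mul_mem (mul_mem hγ htF) (inv_mem hγ)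
  have hml := (isIso_autFn b.rad.lt.le hlF).1
  have hback : ∀ {y}, y ∈ P → autFn γ⁻¹ (autFn γ y) = y := fun {y} hy => by
    rw [← autFn_mul_comp _ _ hy, inv_mul_cancel, autFn_one hy]
  have hlfix : ∀ w ∈ img (autFn γ) (Zs S), autFn l w = w := by
    intro w hw
    obtain ⟨z, hz, rfl⟩ := (hmγ.1.mem_img_iff hZP).1 hw
    rw [autFn_mul_comp _ _ (autFn_mem γ (hZP hz)), hback (hZP hz),
      autFn_mul_comp _ _ (hZP hz), b.fix_of_autS htS hz]
  have hldisp : ∀ y ∈ P, y⁻¹ * autFn l y ∈ img (autFn γ) (Zs S) := by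
    intro y hy
    have hy' : autFn γ⁻¹ y ∈ P := autFn_mem _ hy
    rw [autFn_mul_comp _ _ hy, autFn_mul_comp _ _ hy']
    have e : autFn γ (autFn γ⁻¹ y) = y := by
      rw [← autFn_mul_comp _ _ hy, mul_inv_cancel, autFn_one hy]
    have h' : (autFn γ (autFn γ⁻¹ y))⁻¹ * autFn γ (autFn t (autFn γ⁻¹ y)) ∈ img (autFn γ) (Zs S) := by
      rw [← hmγ.1.map_inv hy', ← hmγ.1.map_mul (P.inv_mem hy') (autFn_mem t hy'), et _ hy']
      exact hmγ.1.mem_img (b.disp_mem ha hy').1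
    rwa [e] at h'
  set w := v⁻¹ * autFn l v with hw
  have hwI : w ∈ img (autFn γ) (Zs S) := hldisp v hvP
  have hwP : w ∈ P := P.mul_mem (P.inv_mem hvP) (autFn_mem l hvP)
  have hlv : autFn l v = v * w := by rw [hw, mul_inv_cancel_left]
  have hwZ : w ∉ Zs S := by
    intro hwZ
    have hl1 : l = 1 := by
      refine b.kernel_eq_one hγ hz₀ hmove hlF (fun d hd => hlfix d hd.2) ?_
      let T : Subgroup Ω :=
        { carrier := {y | y ∈ P ∧ y⁻¹ * autFn l y ∈ fixedPart S γ}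
          one_mem' := ⟨one_mem _, by rw [hml.map_one]; simp⟩
          mul_mem' := by
            rintro y z ⟨hy, hy'⟩ ⟨hz, hz'⟩
            refine ⟨mul_mem hy hz, ?_⟩
            rw [hml.map_mul hy hz]
            have e : (y * z)⁻¹ * (autFn l y * autFn l z) = z⁻¹ * (y⁻¹ * autFn l y) * autFn l z := by group
            rw [e, (mem_Zs.1 hy'.1).2 _ (b.rad.lt.le (P.inv_mem hz)), mul_assoc]
            exact mul_mem hy' hz'
          inv_mem' := by
            rintro y ⟨hy, hy'⟩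
            refine ⟨inv_mem hy, ?_⟩
            rw [hml.map_inv hy]
            have h1 := inv_mem hy'
            have e : y⁻¹⁻¹ * (autFn l y)⁻¹ = y * (y⁻¹ * autFn l y)⁻¹ * y⁻¹ := by group
            rw [e, (mem_Zs.1 h1.1).2 y (b.rad.lt.le hy), mul_inv_cancel_right]
            exact h1 }
      have hI : img (autFn γ) (Zs S) ≤ P :=
        hmγ.1.img_le hZP fun z hz => autFn_mem γ (hZP hz)
      have hle : img (autFn γ) (Zs S) ≤ T := fun u hu =>
        ⟨hI hu, by rw [hlfix u hu, inv_mul_cancel]; exact one_mem _⟩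
      have hlt : img (autFn γ) (Zs S) < T :=
        lt_of_le_of_ne hle fun he => hvD ⟨hv.1, he ▸ (⟨hvP, hwZ, hwI⟩ : v ∈ T)⟩
      have hTP : T = P := by
        have hTle : T ≤ P := fun u hu => hu.1
        refine eq_of_le_of_card b.rad.lt.le hTle ?_
        have hTS : T ≤ S := hTle.trans b.rad.lt.le
        haveI := finite_of_le hTS
        obtain ⟨k, hk⟩ := IsPGroup.iff_card.1 (c.pgroup.to_le hTS)
        haveI : Finite (Zs S) := finite_of_le (FusionAbelianIndex.Zs_le S)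
        obtain ⟨j, hj⟩ := IsPGroup.iff_card.1 (c.pgroup.to_le (FusionAbelianIndex.Zs_le S))
        haveI := finite_of_le (hI.trans b.rad.lt.le)
        have h7 : Nat.card (Zs S) < Nat.card T := by
          rw [← hmγ.1.card_img hZP]
          exact lt_of_le_of_ne (Subgroup.card_le_of_le hle) fun e => hlt.ne (eq_of_le_of_card hTS hle e.ge)
        rw [hk, hj] at h7
        rw [b.card_P, hk, hj, ← pow_succ']
        exact Nat.pow_le_pow_right hp.pos ((Nat.pow_lt_pow_iff_right hp.one_lt).1 h7)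
      exact fun y hy => (hTP.ge hy).2
    have ht1 : t = 1 := by
      have : γ⁻¹ * l * γ = 1 := by rw [hl1, mul_one, inv_mul_cancel]
      rw [← this, hl]
      group
    refine haP (mem_of_conj_mem_inn b.rad.cle haN.1.1 b.rad.lt.le (α := t) ?_ fun y => rfl)
    rw [ht1]
    exact one_mem _
  -- the first transvection with prescribed value at `w`
  have hwA : w ∉ A := fun h => hwZ (b.inf_eq ▸ ⟨hwP, h⟩)
  let ψ : c.W2 b.hxS →* ↥(Zs S ⊓ c.R b.hxS) :=
    MonoidHom.mk' (fun a => ⟨w⁻¹ * (a * w * (a : Ω)⁻¹), b.disp_mem a.2 hwP⟩) fun a a' => Subtype.ext (by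
      show w⁻¹ * ((a : Ω) * a' * w * ((a : Ω) * a')⁻¹) =
        w⁻¹ * (a * w * (a : Ω)⁻¹) * (w⁻¹ * (a' * w * (a' : Ω)⁻¹))
      have h1 := (b.disp_mem a'.2 hwP).1
      have h2 := (mem_Zs.1 h1).2 (a : Ω)⁻¹ (S.inv_mem (c.le ((c.mem_W2 b.hxS).1 a.2).1))
      calc w⁻¹ * ((a : Ω) * a' * w * ((a : Ω) * a')⁻¹)
          = w⁻¹ * (a : Ω) * w * ((w⁻¹ * ((a' : Ω) * w * (a' : Ω)⁻¹)) * (a : Ω)⁻¹) := by group
        _ = w⁻¹ * (a : Ω) * w * ((a : Ω)⁻¹ * (w⁻¹ * ((a' : Ω) * w * (a' : Ω)⁻¹))) := by rw [h2]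
        _ = _ := by group)
  have hψ : ψ.range = ⊤ := by
    haveI : Finite (c.W2 b.hxS) := finite_of_le ((Subgroup.map_subtype_le _).trans c.le)
    haveI : IsCyclic ↥(Zs S ⊓ c.R b.hxS) := isCyclic_of_prime_card hR
    rcases (Nat.dvd_prime hp).1 (hR ▸ ψ.range.card_subgroup_dvd_card) with h1 | h1
    · exfalso
      have h2 : ψ ⟨a, ha⟩ = 1 := by
        have : ψ ⟨a, ha⟩ ∈ ψ.range := ⟨_, rfl⟩
        rwa [Subgroup.card_eq_one.1 h1, Subgroup.mem_bot] at this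
      have h3 : a * w * a⁻¹ = w := by
        have := congrArg Subtype.val h2
        exact (inv_mul_eq_one.1 this).symm
      refine haP (b.rad.cle (mem_centralizerIn.2 ⟨c.le haN.2, fun y hy => ?_⟩))
      have hsup := b.rad.eq_sup c hwP hwA
      have hP : P ≤ Subgroup.centralizer {a} := by
        rw [hsup, b.inf_eq]
        refine sup_le (fun z hz => Subgroup.mem_centralizer_singleton_iff.2
          ((mem_Zs.1 hz).2 a (c.le haN.2)).symm) (Subgroup.zpowers_le.2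
          (Subgroup.mem_centralizer_singleton_iff.2 (mul_inv_eq_iff_eq_mul.1 h3).symm))
      exact (Subgroup.mem_centralizer_singleton_iff.1 (hP hy)).symm
    · exact Subgroup.eq_top_of_card_eq _ (h1.trans hR.symm)
  obtain ⟨a', ha'⟩ : (⟨v⁻¹, inv_mem hv⟩ : ↥(Zs S ⊓ c.R b.hxS)) ∈ ψ.range := hψ ▸ Subgroup.mem_top _
  have ha'N : (a' : Ω) ∈ normalizerIn S P ⊓ A := b.normalizer_inf.ge a'.2
  set u := normConj S P ⟨a', ha'N.1⟩ with hu
  have huS : u ∈ autInducedBy S P := (range_normConj S P).le ⟨_, rfl⟩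
  have huF := autInducedBy_le_autGroup F le_rfl b.rad.lt.le huS
  have huw : autFn u w = w * v⁻¹ := by
    rw [autFn_apply u hwP]
    have := congrArg Subtype.val ha'
    show (a' : Ω) * w * (a' : Ω)⁻¹ = w * v⁻¹
    rw [show w * v⁻¹ = w * (w⁻¹ * ((a' : Ω) * w * (a' : Ω)⁻¹)) by
      rw [show w⁻¹ * ((a' : Ω) * w * (a' : Ω)⁻¹) = v⁻¹ from this]]
    rw [mul_inv_cancel_left]
  have huv : autFn u v = v := b.fix_of_autS huS hv.1
  have hmu := (isIso_autFn b.rad.lt.le huF).1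
  set e := u * l * u with he
  have heF : e ∈ F.autGroup P := mul_mem (mul_mem huF hlF) huF
  have hev : autFn e v = w := by
    rw [autFn_mul_comp _ _ hvP, huv, autFn_mul_comp _ _ hvP, hlv, hmu.map_mul hvP hwP, huv, huw,
      b.comm w hwP v⁻¹ (P.inv_mem hvP), mul_inv_cancel_left]
  have hew : autFn e w = v⁻¹ := by
    have hwv : w * v⁻¹ ∈ P := P.mul_mem hwP (P.inv_mem hvP)
    rw [autFn_mul_comp _ _ hwP, huw, autFn_mul_comp _ _ hwv, hml.map_mul hwP (P.inv_mem hvP),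
      hlfix w hwI, hml.map_inv hvP, hlv, mul_inv_rev, mul_inv_cancel_left, hmu.map_inv hvP, huv]
  have hed : ∀ d ∈ fixedPart S γ, autFn e d = d := fun d hd => by
    have hdP := hZP hd.1
    rw [autFn_mul_comp _ _ hdP, b.fix_of_autS huS hd.1, autFn_mul_comp _ _ hdP, hlfix d hd.2,
      b.fix_of_autS huS hd.1]
  set ε := e * e with hε
  have hεF : ε ∈ F.autGroup P := mul_mem heF heF
  have hmε := (isIso_autFn b.rad.lt.le hεF).1
  have hεv : autFn ε v = v⁻¹ := by rw [autFn_mul_comp _ _ hvP, hev, hew]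
  have hεw : autFn ε w = w⁻¹ := by
    rw [autFn_mul_comp _ _ hwP, hew, (isIso_autFn b.rad.lt.le heF).1.map_inv hvP, hev]
  have hεd : ∀ d ∈ fixedPart S γ, autFn ε d = d := fun d hd => by
    rw [autFn_mul_comp _ _ (hZP hd.1), hed d hd, hed d hd]
  have hεR : ∀ y ∈ Zs S ⊓ c.R b.hxS, autFn ε y = y⁻¹ := by
    intro y hy
    haveI : IsCyclic ↥(Zs S ⊓ c.R b.hxS) := isCyclic_of_prime_card hR
    obtain ⟨i, hi⟩ := Subgroup.mem_zpowers_iff.1
      (mem_zpowers_of_prime_card hR hv0 (g' := (⟨y, hy⟩ : ↥(Zs S ⊓ c.R b.hxS))))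
    have hi' : v ^ i = y := congrArg Subtype.val hi
    subst hi'
    have key : ∀ n : ℕ, autFn ε (v ^ n) = (v ^ n)⁻¹ := by
      intro n
      induction n with
      | zero => rw [pow_zero, hmε.map_one, inv_one]
      | succ m ih => rw [pow_succ, hmε.map_mul (P.pow_mem hvP m) hvP, ih, hεv, ← mul_inv_rev, ← pow_succ', pow_succ]
    rcases Int.eq_nat_or_neg i with ⟨n, rfl | rfl⟩
    · rw [zpow_natCast, key]
    · rw [zpow_neg, zpow_natCast, hmε.map_inv (P.pow_mem hvP n), key, inv_inv]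
  refine ⟨ε, hεF, hεd, hεR, ?_⟩
  let T : Subgroup Ω :=
    { carrier := {y | y ∈ P ∧ y * autFn ε y ∈ Zs S}
      one_mem' := ⟨one_mem _, by rw [hmε.map_one, one_mul]; exact one_mem _⟩
      mul_mem' := by
        rintro y z ⟨hy, hy'⟩ ⟨hz, hz'⟩
        refine ⟨mul_mem hy hz, ?_⟩
        rw [hmε.map_mul hy hz]
        have e' : y * z * (autFn ε y * autFn ε z) = (y * autFn ε y) * (z * autFn ε z) := by
          have := b.comm z hz _ (autFn_mem ε hy)
          calc y * z * (autFn ε y * autFn ε z) = y * (z * autFn ε y) * autFn ε z := by group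
            _ = _ := by rw [this]; group
        rw [e']
        exact mul_mem hy' hz'
      inv_mem' := by
        rintro y ⟨hy, hy'⟩
        refine ⟨inv_mem hy, ?_⟩
        rw [hmε.map_inv hy]
        have h1 := inv_mem hy'
        rwa [mul_inv_rev, b.comm _ (P.inv_mem (autFn_mem ε hy)) _ (P.inv_mem hy)] at h1 }
  intro y hy
  have hTP : P ≤ T := by
    conv_lhs => rw [b.rad.eq_sup c hwP hwA, b.inf_eq]
    refine sup_le (fun z hz => ⟨hZP hz, ?_⟩) (Subgroup.zpowers_le.2 ⟨hwP, ?_⟩)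
    · -- `ε` preserves `Zs S = D (Zs ⊓ R)`
      let X : Subgroup Ω :=
        { carrier := {z | z ∈ Zs S ∧ autFn ε z ∈ Zs S}
          one_mem' := ⟨one_mem _, by rw [hmε.map_one]; exact one_mem _⟩
          mul_mem' := fun {y z} hy hz => ⟨mul_mem hy.1 hz.1, by
            rw [hmε.map_mul (hZP hy.1) (hZP hz.1)]; exact mul_mem hy.2 hz.2⟩
          inv_mem' := fun {y} hy => ⟨inv_mem hy.1, by rw [hmε.map_inv (hZP hy.1)]; exact inv_mem hy.2⟩ }
      have hXle : X ≤ Zs S := fun u hu => hu.1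
      have hDX : fixedPart S γ ≤ X := fun d hd => ⟨hd.1, by rw [hεd d hd]; exact hd.1⟩
      have hvX : v ∈ X := ⟨hv.1, by rw [hεv]; exact inv_mem hv.1⟩
      have hXZ : X = Zs S := by
        refine eq_of_le_of_card (FusionAbelianIndex.Zs_le S) hXle ?_
        have hXS := hXle.trans (FusionAbelianIndex.Zs_le S)
        haveI := finite_of_le hXS
        obtain ⟨k, hk⟩ := IsPGroup.iff_card.1 (c.pgroup.to_le hXS)
        haveI : Finite (fixedPart S γ) := finite_of_le (inf_le_left.trans (FusionAbelianIndex.Zs_le S))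
        obtain ⟨j, hj⟩ := IsPGroup.iff_card.1
          (c.pgroup.to_le (inf_le_left.trans (FusionAbelianIndex.Zs_le S)) : IsPGroup p (fixedPart S γ))
        have h7 : Nat.card (fixedPart S γ) < Nat.card X := lt_of_le_of_ne (Subgroup.card_le_of_le hDX)
          fun e => hvD ((eq_of_le_of_card hXS hDX e.ge).ge hvX)
        rw [hk, hj] at h7
        rw [b.card_zs hγ hz₀ hmove, hk, hj, ← pow_succ']
        exact Nat.pow_le_pow_right hp.pos ((Nat.pow_lt_pow_iff_right hp.one_lt).1 h7)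
      exact mul_mem hz (hXZ.ge hz).2
    · rw [hεw, mul_inv_cancel]
      exact one_mem _
  exact (hTP hy).2

end Cfsg.Agent.FusionAbelianIndex
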