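import Cfsg.Agent.Lib.FusionAbelianIndex.CentreIndex

/-
# The automizer of an abelian radical subgroup for p = 2
-/

namespace Cfsg.Agent.FusionAbelianIndex

open Cfsg Cfsg.FusionSystem Cfsg.Agent Cfsg.Agent.Fusion Cfsg.Agent.FusionChain Cfsg.Agent.FusionSparse

variable {Ω : Type*} [Group Ω] {S A P : Subgroup Ω} {F : FusionSystem S} [Finite S] [Fact (Nat.Prime 2)]
  {c : Ctx S A 2} {x : Ω}

theorem AbRad.exists_z0 (b : AbRad F c P x) : ∃ z ∈ Z0 S, z ≠ 1 ∧ ∀ v ∈ Z0 S, v = 1 ∨ v = z := by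
  haveI : Finite (Z0 S) := finite_of_le ((Z0_le_Zs S).trans (FusionAbelianIndex.Zs_le S))
  obtain ⟨⟨z, hz⟩, hz1, huni⟩ := (Nat.card_eq_two_iff' (1 : Z0 S)).1 b.card_Z0
  refine ⟨z, hz, fun h => hz1 (Subtype.ext h), fun v hv => or_iff_not_imp_left.2 fun h => ?_⟩
  exact congrArg Subtype.val (huni ⟨v, hv⟩ fun e => h (congrArg Subtype.val e))

theorem AbRad.mul_mem_zs (b : AbRad F c P x) {u v : Ω} (hu : u ∈ P) (huZ : u ∉ Zs S) (hv : v ∈ P)
    (hvZ : v ∉ Zs S) : u * v ∈ Zs S := by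
  have hidx : ((Zs S).subgroupOf P).index = 2 := by
    have h := ((Zs S).subgroupOf P).card_mul_index
    rw [Nat.card_congr (Subgroup.subgroupOfEquivOfLe b.rad.zs_le).toEquiv, b.card_P, mul_comm 2] at h
    haveI : Finite (Zs S) := finite_of_le (FusionAbelianIndex.Zs_le S)
    exact Nat.eq_of_mul_eq_mul_left Nat.card_pos h
  have := (Subgroup.mul_mem_iff_of_index_two hidx (a := ⟨u, hu⟩) (b := ⟨v, hv⟩)).2
    ⟨fun h => absurd (Subgroup.mem_subgroupOf.1 h) huZ, fun h => absurd (Subgroup.mem_subgroupOf.1 h) hvZ⟩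
  exact this

theorem AbRad.surj_of_preserves (b : AbRad F c P x) {δ : MulAut P} (hδ : δ ∈ F.autGroup P)
    (h : ∀ u ∈ Zs S, autFn δ u ∈ Zs S) {y : Ω} (hy : y ∈ Zs S) : ∃ u ∈ Zs S, autFn δ u = y := by
  have hm := (isIso_autFn b.rad.lt.le hδ).1
  have he : img (autFn δ) (Zs S) = Zs S :=
    eq_of_le_of_card (FusionAbelianIndex.Zs_le S) (hm.img_le b.rad.zs_le h) (hm.card_img b.rad.zs_le).ge
  exact (hm.mem_img_iff b.rad.zs_le).1 (he.ge hy)

theorem AbRad.inv_moves (b : AbRad F c P x) {γ : MulAut P} (hγ : γ ∈ F.autGroup P) {z₀ : Ω}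
    (hz₀ : z₀ ∈ Zs S) (hmove : autFn γ z₀ ∉ Zs S) : ∃ z ∈ Zs S, autFn γ⁻¹ z ∉ Zs S := by
  by_contra hne
  push Not at hne
  obtain ⟨w, hw, hwe⟩ := b.surj_of_preserves (inv_mem hγ) hne hz₀
  refine hmove ?_
  rw [← hwe, ← autFn_mul_comp _ _ (b.rad.zs_le hw), mul_inv_cancel, autFn_one (b.rad.zs_le hw)]
  exact hw

/-- An automorphism preserves the centre as soon as it keeps the commutator involution in it. -/
theorem AbRad.preserves_of_mem (b : AbRad F c P x) {α : MulAut P} (hα : α ∈ F.autGroup P) {z : Ω}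
    (hz : z ∈ Z0 S) (hz1 : z ≠ 1) (h : autFn α z ∈ Zs S) : ∀ u ∈ Zs S, autFn α u ∈ Zs S := by
  by_contra hne
  push Not at hne
  obtain ⟨u, hu, hu'⟩ := hne
  obtain ⟨u', hu₂, hu₂'⟩ := b.inv_moves hα hu hu'
  refine hz1 (b.fixed_inf_Z0 (inv_mem hα) hu₂ hu₂' ⟨hz.1, ?_⟩ hz)
  have hzP := b.rad.zs_le hz.1
  have e : autFn α⁻¹ (autFn α z) = z := by
    rw [← autFn_mul_comp _ _ hzP, inv_mul_cancel, autFn_one hzP]
  exact e ▸ (isIso_autFn b.rad.lt.le (inv_mem hα)).1.mem_img h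

theorem AbRad.z0_fixed (b : AbRad F c P x) {α : MulAut P} (hα : α ∈ F.autGroup P) {z : Ω}
    (hz : z ∈ Z0 S) (hz1 : z ≠ 1) (h : autFn α z ∈ Zs S) : autFn α z = z := by
  obtain ⟨g, hg, hge, -⟩ :=
    FusionInner.exists_restrict b.rad.lt.le b.rad.zs_le hα (b.preserves_of_mem hα hz hz1 h)
  obtain ⟨z', hz', -, huni⟩ := b.exists_z0
  have h1 := autFn_mem_Z0 c.pgroup b.hsat hg hz
  rw [hge z hz.1] at h1
  have e1 : z = z' := (huni z hz).resolve_left hz1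
  rcases huni _ h1 with h2 | h2
  · refine absurd ?_ hz1
    have hm := (isIso_autFn b.rad.lt.le hα).1
    exact hm.inj (b.rad.zs_le hz.1) P.one_mem (h2.trans hm.map_one.symm)
  · rw [h2, e1]

theorem AbRad.exists_transvection (b : AbRad F c P x) {z : Ω} (hz : z ∈ Z0 S) (hz1 : z ≠ 1) :
    ∃ t ∈ F.autGroup P, (∀ u ∈ Zs S, autFn t u = u) ∧ ∀ u ∈ P, u ∉ Zs S → autFn t u = u * z := by
  obtain ⟨a, ha, haP⟩ := b.exists_not_mem
  have haN : a ∈ normalizerIn S P ⊓ A := b.normalizer_inf.ge ha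
  set t := normConj S P ⟨a, haN.1⟩ with ht
  have et : ∀ y ∈ P, autFn t y = a * y * a⁻¹ := fun y hy => by
    rw [autFn_apply t hy]
    rfl
  refine ⟨t, autInducedBy_le_autGroup F le_rfl b.rad.lt.le ((range_normConj S P).le ⟨_, rfl⟩),
    fun u hu => by rw [et u (b.rad.zs_le hu)]; exact b.fix_zs (c.le haN.2) hu, fun u hu huZ => ?_⟩
  rw [et u hu]
  have h1 : u⁻¹ * (a * u * a⁻¹) ∈ Z0 S := b.zs0_eq.le (b.disp_mem ha hu)
  obtain ⟨z', -, -, huni⟩ := b.exists_z0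
  have e1 : z = z' := (huni z hz).resolve_left hz1
  rcases huni _ h1 with h | h
  · exfalso
    have h3 : a * u * a⁻¹ = u := (inv_mul_eq_one.1 h).symm
    refine haP (b.rad.cle (mem_centralizerIn.2 ⟨c.le haN.2, fun y hy => ?_⟩))
    have huA : u ∉ A := fun huA => huZ (b.inf_eq ▸ ⟨hu, huA⟩)
    have hP : P ≤ Subgroup.centralizer {a} := by
      rw [b.rad.eq_sup c hu huA, b.inf_eq]
      exact sup_le (fun w hw => Subgroup.mem_centralizer_singleton_iff.2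
        ((mem_Zs.1 hw).2 a (c.le haN.2)).symm) (Subgroup.zpowers_le.2
        (Subgroup.mem_centralizer_singleton_iff.2 (mul_inv_eq_iff_eq_mul.1 h3).symm))
    exact (Subgroup.mem_centralizer_singleton_iff.1 (hP hy)).symm
  · rw [← mul_inv_cancel_left u (a * u * a⁻¹), h, e1]

/-- Up to an element preserving the centre there are three automorphisms. -/
theorem AbRad.three_cases (b : AbRad F c P x) {z : Ω} (hz : z ∈ Z0 S) (hz1 : z ≠ 1) {t γ α : MulAut P}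
    (ht2 : ∀ u ∈ P, u ∉ Zs S → autFn t u = u * z)
    (hγ : γ ∈ F.autGroup P) {z₀ : Ω} (hz₀ : z₀ ∈ Zs S) (hmove : autFn γ z₀ ∉ Zs S) :
    autFn α z ∈ Zs S ∨ autFn γ⁻¹ (autFn α z) ∈ Zs S ∨ autFn γ⁻¹ (autFn t (autFn α z)) ∈ Zs S := by
  by_contra hne
  push Not at hne
  obtain ⟨h1, h2, h3⟩ := hne
  have hzP := b.rad.zs_le hz.1
  have hu := autFn_mem α hzP
  rw [ht2 _ hu h1, (isIso_autFn b.rad.lt.le (inv_mem hγ)).1.map_mul hu hzP] at h3
  obtain ⟨z', hz₂, hz₂'⟩ := b.inv_moves hγ hz₀ hmove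
  have h4 : autFn γ⁻¹ z ∉ Zs S := fun h => hz₂' (b.preserves_of_mem (inv_mem hγ) hz hz1 h z' hz₂)
  exact h3 (b.mul_mem_zs (autFn_mem _ hu) h2 (autFn_mem _ hzP) h4)

/-- The fixed part lies in every image of the centre. -/
theorem AbRad.fixedPart_mem_img (b : AbRad F c P x) {γ : MulAut P}
    (hγ : γ ∈ F.autGroup P) {z₀ : Ω} (hz₀ : z₀ ∈ Zs S) (hmove : autFn γ z₀ ∉ Zs S) {d : Ω}
    (hd : d ∈ fixedPart S γ) {α : MulAut P} (hα : α ∈ F.autGroup P) : ∃ u ∈ Zs S, autFn α u = d := by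
  obtain ⟨z, hz, hz1, -⟩ := b.exists_z0
  obtain ⟨t, ht, ht1, ht2⟩ := b.exists_transvection hz hz1
  have hzP := b.rad.zs_le hz.1
  obtain ⟨d', hd', hde⟩ := ((isIso_autFn b.rad.lt.le hγ).1.mem_img_iff b.rad.zs_le).1 hd.2
  have hforth : ∀ {y}, y ∈ P → autFn γ (autFn γ⁻¹ y) = y := fun {y} hy => by
    rw [← autFn_mul_comp _ _ hy, mul_inv_cancel, autFn_one hy]
  rcases b.three_cases (α := α) hz hz1 ht2 hγ hz₀ hmove with h | h | h
  · exact b.surj_of_preserves hα (b.preserves_of_mem hα hz hz1 h) hd.1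
  · rw [← autFn_mul_comp _ _ hzP] at h
    obtain ⟨u, hu, hue⟩ := b.surj_of_preserves (mul_mem (inv_mem hγ) hα)
      (b.preserves_of_mem (mul_mem (inv_mem hγ) hα) hz hz1 h) hd'
    refine ⟨u, hu, ?_⟩
    rw [← hde, ← hue, autFn_mul_comp _ _ (b.rad.zs_le hu), hforth (autFn_mem α (b.rad.zs_le hu))]
  · rw [← autFn_mul_comp _ _ hzP, ← autFn_mul_comp _ _ hzP] at h
    have hδ : γ⁻¹ * (t * α) ∈ F.autGroup P := mul_mem (inv_mem hγ) (mul_mem ht hα)
    obtain ⟨u, hu, hue⟩ := b.surj_of_preserves hδ (b.preserves_of_mem hδ hz hz1 h) hd'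
    refine ⟨u, hu, (isIso_autFn b.rad.lt.le ht).1.inj (autFn_mem α (b.rad.zs_le hu)) (b.rad.zs_le hd.1) ?_⟩
    rw [ht1 d hd.1, ← hde, ← hue, autFn_mul_comp _ _ (b.rad.zs_le hu), autFn_mul_comp _ _ (b.rad.zs_le hu),
      hforth (autFn_mem t (autFn_mem α (b.rad.zs_le hu)))]

theorem AbRad.fixedPart_invariant_two (b : AbRad F c P x) {γ : MulAut P}
    (hγ : γ ∈ F.autGroup P) {z₀ : Ω} (hz₀ : z₀ ∈ Zs S) (hmove : autFn γ z₀ ∉ Zs S) {d : Ω}
    (hd : d ∈ fixedPart S γ) {α : MulAut P} (hα : α ∈ F.autGroup P) : autFn α d ∈ fixedPart S γ := by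
  have hback : ∀ {y}, y ∈ P → autFn α (autFn α⁻¹ y) = y := fun {y} hy => by
    rw [← autFn_mul_comp _ _ hy, mul_inv_cancel, autFn_one hy]
  refine ⟨?_, ?_⟩
  · obtain ⟨u, hu, hue⟩ := b.fixedPart_mem_img hγ hz₀ hmove hd (inv_mem hα)
    rw [← hue, hback (b.rad.zs_le hu)]
    exact hu
  · obtain ⟨u, hu, hue⟩ := b.fixedPart_mem_img hγ hz₀ hmove hd (mul_mem (inv_mem hα) hγ)
    rw [← hue, autFn_mul_comp _ _ (b.rad.zs_le hu), hback (autFn_mem γ (b.rad.zs_le hu))]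
    exact (isIso_autFn b.rad.lt.le hγ).1.mem_img hu

/-- A moving automorphism that fixes the fixed part pointwise. -/
theorem AbRad.exists_good (b : AbRad F c P x) :
    ∃ γ ∈ F.autGroup P, (∃ z₀ ∈ Zs S, autFn γ z₀ ∉ Zs S) ∧ ∀ d ∈ fixedPart S γ, autFn γ d = d := by
  obtain ⟨γ, hγ, z₀, hz₀, hmove⟩ := b.exists_moving
  obtain ⟨z, hz, hz1, -⟩ := b.exists_z0
  obtain ⟨t, ht, ht1, ht2⟩ := b.exists_transvection hz hz1
  have hzP := b.rad.zs_le hz.1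
  have hm := (isIso_autFn b.rad.lt.le hγ).1
  have hforth : ∀ {y}, y ∈ P → autFn γ (autFn γ⁻¹ y) = y := fun {y} hy => by
    rw [← autFn_mul_comp _ _ hy, mul_inv_cancel, autFn_one hy]
  have hback : ∀ {y}, y ∈ P → autFn γ⁻¹ (autFn γ y) = y := fun {y} hy => by
    rw [← autFn_mul_comp _ _ hy, inv_mul_cancel, autFn_one hy]
  obtain ⟨z', hz₂, hz₂'⟩ := b.inv_moves hγ hz₀ hmove
  have hmi : autFn γ⁻¹ z ∉ Zs S := fun h => hz₂' (b.preserves_of_mem (inv_mem hγ) hz hz1 h z' hz₂)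
  have hγz : autFn γ z ∉ Zs S := fun h => hmove (b.preserves_of_mem hγ hz hz1 h z₀ hz₀)
  have ht'F : γ * t * γ⁻¹ ∈ F.autGroup P := mul_mem (mul_mem hγ ht) (inv_mem hγ)
  have ht'move : autFn (γ * t * γ⁻¹) z ∉ Zs S := by
    rw [autFn_mul_comp _ _ hzP, autFn_mul_comp _ _ (autFn_mem _ hzP), ht2 _ (autFn_mem _ hzP) hmi,
      hm.map_mul (autFn_mem _ hzP) hzP, hforth hzP]
    intro h
    have h' := (Zs S).mul_mem ((Zs S).inv_mem hz.1) h
    rw [inv_mul_cancel_left] at h'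
    exact hγz h'
  refine ⟨γ * t * γ⁻¹, ht'F, ⟨z, hz.1, ht'move⟩, fun d hd => ?_⟩
  have hle : fixedPart S γ ≤ fixedPart S (γ * t * γ⁻¹) := fun e he => by
    obtain ⟨u, hu, hue⟩ := b.fixedPart_mem_img hγ hz₀ hmove he ht'F
    exact ⟨he.1, hue ▸ (isIso_autFn b.rad.lt.le ht'F).1.mem_img hu⟩
  have heq : fixedPart S γ = fixedPart S (γ * t * γ⁻¹) := by
    refine eq_of_le_of_card ((inf_le_left : fixedPart S (γ * t * γ⁻¹) ≤ Zs S).trans
      (FusionAbelianIndex.Zs_le S)) hle ?_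
    have h1 := b.card_zs hγ hz₀ hmove
    rw [b.card_zs ht'F hz.1 ht'move] at h1
    exact (Nat.eq_of_mul_eq_mul_left two_pos h1).le
  obtain ⟨u, hu, hue⟩ := (hm.mem_img_iff b.rad.zs_le).1 (heq.ge hd).2
  have huP := b.rad.zs_le hu
  rw [← hue, autFn_mul_comp _ _ (autFn_mem γ huP), hback huP, autFn_mul_comp _ _ huP, ht1 u hu]

/-- On the fixed part every automorphism agrees with one of the centre. -/
theorem AbRad.exists_centre_aut (b : AbRad F c P x) {γ : MulAut P}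
    (hγ : γ ∈ F.autGroup P) {z₀ : Ω} (hz₀ : z₀ ∈ Zs S) (hmove : autFn γ z₀ ∉ Zs S)
    (hfix : ∀ d ∈ fixedPart S γ, autFn γ d = d) {α : MulAut P} (hα : α ∈ F.autGroup P) :
    ∃ g ∈ F.autGroup (Zs S), ∀ d ∈ fixedPart S γ, autFn α d = autFn g d := by
  obtain ⟨z, hz, hz1, -⟩ := b.exists_z0
  obtain ⟨t, ht, ht1, ht2⟩ := b.exists_transvection hz hz1
  have hzP := b.rad.zs_le hz.1
  have hinv : ∀ d ∈ fixedPart S γ, autFn γ⁻¹ d = d := fun d hd => by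
    conv_lhs => rw [← hfix d hd]
    rw [← autFn_mul_comp _ _ (b.rad.zs_le hd.1), inv_mul_cancel, autFn_one (b.rad.zs_le hd.1)]
  obtain ⟨δ, hδ, hδz, hδd⟩ : ∃ δ ∈ F.autGroup P, autFn δ z ∈ Zs S ∧
      ∀ d ∈ fixedPart S γ, autFn δ d = autFn α d := by
    rcases b.three_cases (α := α) hz hz1 ht2 hγ hz₀ hmove with h | h | h
    · exact ⟨α, hα, h, fun d _ => rfl⟩
    · rw [← autFn_mul_comp _ _ hzP] at h
      refine ⟨_, mul_mem (inv_mem hγ) hα, h, fun d hd => ?_⟩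
      rw [autFn_mul_comp _ _ (b.rad.zs_le hd.1), hinv _ (b.fixedPart_invariant_two hγ hz₀ hmove hd hα)]
    · rw [← autFn_mul_comp _ _ hzP, ← autFn_mul_comp _ _ hzP] at h
      refine ⟨_, mul_mem (inv_mem hγ) (mul_mem ht hα), h, fun d hd => ?_⟩
      have hd' := b.fixedPart_invariant_two hγ hz₀ hmove hd hα
      rw [autFn_mul_comp _ _ (b.rad.zs_le hd.1), autFn_mul_comp _ _ (b.rad.zs_le hd.1), ht1 _ hd'.1, hinv _ hd']
  obtain ⟨g, hg, hge, -⟩ :=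
    FusionInner.exists_restrict b.rad.lt.le b.rad.zs_le hδ (b.preserves_of_mem hδ hz hz1 hδz)
  exact ⟨g, hg, fun d hd => (hδd d hd).symm.trans (hge d hd.1).symm⟩

/-- The images of the commutator involution. -/
theorem AbRad.image_cases (b : AbRad F c P x) {z : Ω} (hz : z ∈ Z0 S) (hz1 : z ≠ 1) {γ : MulAut P}
    (hγ : γ ∈ F.autGroup P) {z₀ : Ω} (hz₀ : z₀ ∈ Zs S) (hmove : autFn γ z₀ ∉ Zs S) {α : MulAut P}
    (hα : α ∈ F.autGroup P) :
    autFn α z = z ∨ autFn α z = autFn γ z ∨ autFn α z = autFn γ z * z := by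
  obtain ⟨t, ht, ht1, ht2⟩ := b.exists_transvection hz hz1
  have hzP := b.rad.zs_le hz.1
  have hm := (isIso_autFn b.rad.lt.le ht).1
  have hforth : ∀ {y}, y ∈ P → autFn γ (autFn γ⁻¹ y) = y := fun {y} hy => by
    rw [← autFn_mul_comp _ _ hy, mul_inv_cancel, autFn_one hy]
  rcases b.three_cases (α := α) hz hz1 ht2 hγ hz₀ hmove with h | h | h
  · exact Or.inl (b.z0_fixed hα hz hz1 h)
  · rw [← autFn_mul_comp _ _ hzP] at h
    have h' := congrArg (autFn γ) (b.z0_fixed (mul_mem (inv_mem hγ) hα) hz hz1 h)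
    rw [autFn_mul_comp _ _ hzP, hforth (autFn_mem α hzP)] at h'
    exact Or.inr (Or.inl h')
  · rw [← autFn_mul_comp _ _ hzP, ← autFn_mul_comp _ _ hzP] at h
    have h' := congrArg (autFn γ) (b.z0_fixed (mul_mem (inv_mem hγ) (mul_mem ht hα)) hz hz1 h)
    rw [autFn_mul_comp _ _ hzP, autFn_mul_comp _ _ hzP, hforth (autFn_mem t (autFn_mem α hzP))] at h'
    refine Or.inr (Or.inr (hm.inj (autFn_mem α hzP) (P.mul_mem (autFn_mem γ hzP) hzP) ?_))
    have hγz : autFn γ z ∉ Zs S := fun h => hmove (b.preserves_of_mem hγ hz hz1 h z₀ hz₀)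
    have hzz : z * z = 1 := by
      obtain ⟨z', -, -, huni⟩ := b.exists_z0
      rcases huni _ (mul_mem hz hz) with h1 | h1
      · exact h1
      · have e1 : z = z' := (huni z hz).resolve_left hz1
        rw [← e1] at h1
        exact absurd (mul_eq_left.1 h1) hz1
    rw [h', hm.map_mul (autFn_mem γ hzP) hzP, ht2 _ (autFn_mem γ hzP) hγz, ht1 z hz.1, mul_assoc, hzz, mul_one]

/-- Squares of the subgroup are squares of the centre. -/
theorem AbRad.sq_eq (b : AbRad F c P x) {γ : MulAut P}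
    (hγ : γ ∈ F.autGroup P) {z₀ : Ω} (hz₀ : z₀ ∈ Zs S) (hmove : autFn γ z₀ ∉ Zs S) {u : Ω} (hu : u ∈ P) :
    ∃ v ∈ Zs S, u * u = v * v := by
  obtain ⟨z, hz, hz1, huni⟩ := b.exists_z0
  have hzP := b.rad.zs_le hz.1
  have hm := (isIso_autFn b.rad.lt.le hγ).1
  have hwZ : autFn γ z ∉ Zs S := fun h => hmove (b.preserves_of_mem hγ hz hz1 h z₀ hz₀)
  have hwP := autFn_mem γ hzP
  have hzz : z * z = 1 := (huni _ (mul_mem hz hz)).resolve_right fun h => hz1 (mul_eq_left.1 h)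
  have hww : autFn γ z * autFn γ z = 1 := by rw [← hm.map_mul hzP hzP, hzz, hm.map_one]
  let T : Subgroup Ω :=
    { carrier := {u | u ∈ P ∧ ∃ v ∈ Zs S, u * u = v * v}
      one_mem' := ⟨one_mem _, 1, one_mem _, rfl⟩
      mul_mem' := by
        rintro u u' ⟨hu, v, hv, e⟩ ⟨hu', v', hv', e'⟩
        refine ⟨mul_mem hu hu', v * v', mul_mem hv hv', ?_⟩
        have h1 : Commute u u' := b.comm u hu u' hu'
        have h2 : Commute v v' := b.comm v (b.rad.zs_le hv) v' (b.rad.zs_le hv')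
        rw [h1.symm.mul_mul_mul_comm, h2.symm.mul_mul_mul_comm, e, e']
      inv_mem' := by
        rintro u ⟨hu, v, hv, e⟩
        refine ⟨inv_mem hu, v⁻¹, inv_mem hv, ?_⟩
        rw [← mul_inv_rev, ← mul_inv_rev, e] }
  have hT : P ≤ T := by
    conv_lhs => rw [b.rad.eq_sup c hwP (fun h => hwZ (b.inf_eq ▸ ⟨hwP, h⟩)), b.inf_eq]
    exact sup_le (fun v hv => ⟨b.rad.zs_le hv, v, hv, rfl⟩)
      (Subgroup.zpowers_le.2 ⟨hwP, 1, one_mem _, by rw [hww, mul_one]⟩)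
  exact (hT hu).2

end Cfsg.Agent.FusionAbelianIndex
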