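import Cfsg.Agent.Lib.FusionAbelianIndex.Transvection

/-
# The second centre and the lower central series
-/

namespace Cfsg.Agent.FusionAbelianIndex

open Cfsg Cfsg.FusionSystem Cfsg.Agent Cfsg.Agent.Fusion
open scoped commutatorElement

variable {Ω : Type*} [Group Ω] {S A P : Subgroup Ω} {F : FusionSystem S} {p : ℕ} [Finite S] [Fact p.Prime]

/-- `A` is the only abelian subgroup of index `p`. -/
def Unique' (S A : Subgroup Ω) (p : ℕ) : Prop :=
  ∀ B : Subgroup Ω, B ≤ S → IsMulCommutative B → (B.subgroupOf S).index = p → B = A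

theorem mem_center_iff_Zs {w : S} : w ∈ Subgroup.center S ↔ (w : Ω) ∈ Zs S := by
  rw [Subgroup.mem_center_iff, mem_Zs]
  exact ⟨fun h => ⟨w.2, fun t ht => congrArg Subtype.val (h ⟨t, ht⟩)⟩,
    fun h t => Subtype.ext (h.2 t t.2)⟩

theorem mem_upperTwo {s : Ω} :
    s ∈ (Subgroup.upperCentralSeries S 2).map S.subtype ↔
      s ∈ S ∧ ∀ t ∈ S, s * t * s⁻¹ * t⁻¹ ∈ Zs S := by
  constructor
  · rintro ⟨u, hu, rfl⟩
    refine ⟨u.2, fun t ht => ?_⟩
    have h := Subgroup.mem_upperCentralSeries_succ_iff.1 hu ⟨t, ht⟩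
    rw [Subgroup.upperCentralSeries_one, mem_center_iff_Zs] at h
    exact h
  · rintro ⟨hs, h⟩
    refine ⟨⟨s, hs⟩, Subgroup.mem_upperCentralSeries_succ_iff.2 fun t => ?_, rfl⟩
    rw [Subgroup.upperCentralSeries_one, mem_center_iff_Zs]
    exact h t t.2

theorem Ctx.W2_ne (c : Ctx S A p) (hna : ¬ IsMulCommutative S) (hu : Unique' S A p) {x : Ω} (hx : x ∈ S)
    (hxA : x ∉ A) (hW : Nat.card (c.W2 hx) = p * Nat.card (Zs S)) : c.W2 hx ≠ A := by
  intro he
  have hd : ∀ a ∈ A, a⁻¹ * (x * a * x⁻¹) ∈ Zs S := fun a ha => ((c.mem_W2 hx).1 (he.ge ha)).2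
  -- the subgroup generated by the centre and `x` is abelian of index `p`
  let B := Zs S ⊔ Subgroup.zpowers x
  have hBS : B ≤ S := sup_le (FusionAbelianIndex.Zs_le S) (Subgroup.zpowers_le.2 hx)
  have hBc : B ≤ Subgroup.centralizer (B : Set Ω) := by
    refine sup_le (fun z hz => Subgroup.mem_centralizer_iff.2 fun y hy => (mem_Zs.1 hz).2 y (hBS hy))
      (Subgroup.zpowers_le.2 (Subgroup.mem_centralizer_iff.2 fun y hy => ?_))
    have hle : B ≤ Subgroup.centralizer {x} := sup_le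
      (fun z hz => Subgroup.mem_centralizer_singleton_iff.2 ((mem_Zs.1 hz).2 x hx).symm)
      (Subgroup.zpowers_le.2 (Subgroup.mem_centralizer_singleton_iff.2 rfl))
    exact Subgroup.mem_centralizer_singleton_iff.1 (hle hy)
  have hBA : B ⊓ A = Zs S := by
    refine le_antisymm (fun a ha => ?_) (le_inf le_sup_left (c.Zs_le hna))
    have h1 : (⟨a, ha.2⟩ : A) ∈ (c.d hx).ker := by
      rw [MonoidHom.mem_ker, c.d_eq_one]
      exact (Subgroup.mem_centralizer_iff.1 (hBc ha.1)) x (Subgroup.mem_sup_right (Subgroup.mem_zpowers x))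
    rw [c.ker_d hna hx hxA] at h1
    exact h1
  have hR : c.R hx ≤ Zs S := by
    rintro _ ⟨_, ⟨a, rfl⟩, rfl⟩
    exact hd a a.2
  haveI := finite_of_le c.le
  have hcR : Nat.card A = Nat.card (Zs S) * Nat.card (c.R hx) := by
    rw [← (c.d hx).ker.card_mul_index, Subgroup.index_ker, c.ker_d hna hx hxA,
      Nat.card_congr (Subgroup.subgroupOfEquivOfLe (c.Zs_le hna)).toEquiv,
      Ctx.R, Subgroup.card_map_of_injective A.subtype_injective]
  haveI : Finite (Zs S) := finite_of_le (FusionAbelianIndex.Zs_le S)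
  have hRc : Nat.card (c.R hx) = p := by
    rw [he, hcR, mul_comm p] at hW
    exact Nat.eq_of_mul_eq_mul_left Nat.card_pos hW
  have hB : (B.subgroupOf S).index = p → False := fun hidx => by
    have hBA' : B = A := hu B hBS ⟨⟨fun u v => Subtype.ext
      (Subgroup.mem_centralizer_iff.1 (hBc v.2) u u.2)⟩⟩ hidx
    exact hxA (hBA' ▸ Subgroup.mem_sup_right (Subgroup.mem_zpowers x))
  have h1 := c.card_inf hBS (Subgroup.mem_sup_right (Subgroup.mem_zpowers x)) hxA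
  rw [hBA] at h1
  have h2 := (A.subgroupOf S).card_mul_index
  rw [c.index, Nat.card_congr (Subgroup.subgroupOfEquivOfLe c.le).toEquiv, hcR, hRc] at h2
  have h3 := (B.subgroupOf S).card_mul_index
  rw [Nat.card_congr (Subgroup.subgroupOfEquivOfLe hBS).toEquiv, h1, ← h2] at h3
  refine hB (Nat.eq_of_mul_eq_mul_left (Nat.mul_pos (Fact.out : p.Prime).pos (Nat.card_pos (α := Zs S))) ?_)
  rw [h3]
  ring

theorem Ctx.disp_mem_zs (c : Ctx S A p) {x : Ω} (hx : x ∈ S) (hxA : x ∉ A) {a : Ω} (ha : a ∈ c.W2 hx)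
    {y : Ω} (hy : y ∈ S) : y⁻¹ * (a * y * a⁻¹) ∈ Zs S := by
  obtain ⟨haA, hd⟩ := (c.mem_W2 hx).1 ha
  let T : Subgroup Ω :=
    { carrier := {y | y ∈ S ∧ y⁻¹ * (a * y * a⁻¹) ∈ Zs S}
      one_mem' := ⟨one_mem _, by simp⟩
      mul_mem' := by
        rintro y z ⟨hy, hy'⟩ ⟨hz, hz'⟩
        refine ⟨mul_mem hy hz, ?_⟩
        have e : (y * z)⁻¹ * (a * (y * z) * a⁻¹) =
            z⁻¹ * (y⁻¹ * (a * y * a⁻¹)) * (a * z * a⁻¹) := by group
        rw [e, (mem_Zs.1 hy').2 _ (inv_mem hz), mul_assoc]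
        exact mul_mem hy' hz'
      inv_mem' := by
        rintro y ⟨hy, hy'⟩
        refine ⟨inv_mem hy, ?_⟩
        have h1 := inv_mem hy'
        have e : y⁻¹⁻¹ * (a * y⁻¹ * a⁻¹) = y * (y⁻¹ * (a * y * a⁻¹))⁻¹ * y⁻¹ := by group
        rw [e, (mem_Zs.1 h1).2 y hy, mul_inv_cancel_right]
        exact h1 }
  have hxT : x ∈ T := by
    refine ⟨hx, ?_⟩
    have h1 := (mem_Zs.1 ((Zs S).inv_mem hd)).2 x⁻¹ (S.inv_mem hx)
    have e : x⁻¹ * (a * x * a⁻¹) = (a⁻¹ * (x * a * x⁻¹))⁻¹ := by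
      calc x⁻¹ * (a * x * a⁻¹) = x⁻¹ * (a * (a⁻¹ * (x * a * x⁻¹))⁻¹ * a⁻¹) * x := by group
        _ = x⁻¹ * (a⁻¹ * (x * a * x⁻¹))⁻¹ * x := by
          rw [(mem_Zs.1 ((Zs S).inv_mem hd)).2 a (c.le haA), mul_inv_cancel_right]
        _ = _ := by rw [h1, inv_mul_cancel_right]
    rw [e]
    exact (Zs S).inv_mem hd
  obtain ⟨b, hb, i, rfl⟩ := c.exists_mul hx hxA hy
  have hbT : b ∈ T := ⟨c.le hb, by rw [c.comm a haA b hb, mul_inv_cancel_right, inv_mul_cancel]; exact one_mem _⟩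
  exact (T.mul_mem hbT (T.zpow_mem hxT i)).2

theorem Ctx.upperTwo_eq (c : Ctx S A p) (hna : ¬ IsMulCommutative S) (hu : Unique' S A p) {x : Ω}
    (hx : x ∈ S) (hxA : x ∉ A) (hW : Nat.card (c.W2 hx) = p * Nat.card (Zs S)) :
    (Subgroup.upperCentralSeries S 2).map S.subtype = c.W2 hx := by
  have hle : (Subgroup.upperCentralSeries S 2).map S.subtype ≤ A := by
    intro g hg
    obtain ⟨hgS, hg2⟩ := mem_upperTwo.1 hg
    by_contra hgA
    apply c.W2_ne hna hu hx hxA hW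
    refine le_antisymm (Subgroup.map_subtype_le _) fun a ha => (c.mem_W2 hx).2 ⟨ha, ?_⟩
    obtain ⟨b, hb, i, e⟩ := c.exists_mul hgS hgA hx
    -- conjugation by `g` moves `a` by a central element
    let T : Subgroup Ω :=
      { carrier := {y | y ∈ S ∧ a⁻¹ * (y * a * y⁻¹) ∈ Zs S}
        one_mem' := ⟨one_mem _, by simp⟩
        mul_mem' := by
          rintro y z ⟨hy, hy'⟩ ⟨hz, hz'⟩
          refine ⟨mul_mem hy hz, ?_⟩
          have e : a⁻¹ * (y * z * a * (y * z)⁻¹) = a⁻¹ * (y * a * y⁻¹) * (y * (a⁻¹ * (z * a * z⁻¹)) * y⁻¹) := by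
            group
          rw [e, (mem_Zs.1 hz').2 y hy, mul_inv_cancel_right]
          exact mul_mem hy' hz'
        inv_mem' := by
          rintro y ⟨hy, hy'⟩
          refine ⟨inv_mem hy, ?_⟩
          have h1 := inv_mem hy'
          have e : a⁻¹ * (y⁻¹ * a * y⁻¹⁻¹) = y⁻¹ * (a⁻¹ * (y * a * y⁻¹))⁻¹ * y⁻¹⁻¹ := by group
          rw [e, (mem_Zs.1 h1).2 _ (inv_mem hy), mul_inv_cancel_right]
          exact h1 }
    have hgT : g ∈ T := by
      refine ⟨hgS, ?_⟩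
      have h1 := hg2 a (c.le ha)
      have h2 := (mem_Zs.1 h1).2 a⁻¹ (S.inv_mem (c.le ha))
      have e' : a⁻¹ * (g * a * g⁻¹) = g * a * g⁻¹ * a⁻¹ := by
        calc a⁻¹ * (g * a * g⁻¹) = a⁻¹ * (g * a * g⁻¹ * a⁻¹) * a := by group
          _ = _ := by rw [h2, inv_mul_cancel_right]
      rw [e']
      exact h1
    have hbT : b ∈ T := ⟨c.le hb, by rw [c.comm b hb a ha, mul_inv_cancel_right, inv_mul_cancel]; exact one_mem _⟩
    have := (T.mul_mem hbT (T.zpow_mem hgT i)).2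
    rwa [← e] at this
  refine le_antisymm (fun g hg => (c.mem_W2 hx).2 ⟨hle hg, ?_⟩) fun a ha => ?_
  · have h1 := (mem_Zs.1 ((mem_upperTwo.1 hg).2 x hx))
    have h2 := (Zs S).inv_mem ((mem_upperTwo.1 hg).2 x hx)
    have h3 := (mem_Zs.1 h2).2 g⁻¹ (S.inv_mem (c.le (hle hg)))
    have e : g⁻¹ * (x * g * x⁻¹) = (g * x * g⁻¹ * x⁻¹)⁻¹ := by
      calc g⁻¹ * (x * g * x⁻¹) = g⁻¹ * (g * x * g⁻¹ * x⁻¹)⁻¹ * g := by group
        _ = _ := by rw [h3, inv_mul_cancel_right]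
    rw [e]
    exact h2
  · refine mem_upperTwo.2 ⟨c.le ((c.mem_W2 hx).1 ha).1, fun t ht => ?_⟩
    have h1 := c.disp_mem_zs hx hxA ha ht
    have h2 := (mem_Zs.1 h1).2 t ht
    have e : a * t * a⁻¹ * t⁻¹ = t * (t⁻¹ * (a * t * a⁻¹)) * t⁻¹ := by group
    rw [e, h2, mul_inv_cancel_right]
    exact h1

theorem Ctx.iterate_mem (c : Ctx S A p) {x : Ω} (hx : x ∈ S) :
    ∀ j, ∀ a : A, (((c.d hx)^[j + 1] a : A) : Ω) ∈ Subgroup.lowerCentralSeries S (j + 1) := by
  intro j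
  induction j with
  | zero =>
    intro a
    show (a : Ω)⁻¹ * (x * a * x⁻¹) ∈ ⁅S, S⁆
    have e : (a : Ω)⁻¹ * (x * a * x⁻¹) = ⁅(a : Ω)⁻¹, x⁆ := by simp [commutatorElement_def, mul_assoc]
    rw [e]
    exact Subgroup.commutator_mem_commutator (S.inv_mem (c.le a.2)) hx
  | succ m ih =>
    intro a
    rw [Function.iterate_succ_apply', c.d_apply]
    set u := ((c.d hx)^[m + 1] a : A)
    have e : (u : Ω)⁻¹ * (x * u * x⁻¹) = ⁅(u : Ω)⁻¹, x⁆ := by simp [commutatorElement_def, mul_assoc]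
    rw [e]
    exact Subgroup.commutator_mem_commutator (inv_mem (ih a)) hx

/-- With `|Z(S) ∩ [S, S]| = p` the factor group by the centre has maximal class. -/
theorem Ctx.lowerCentral_not_le (c : Ctx S A p) (hna : ¬ IsMulCommutative S) {x : Ω} (hx : x ∈ S)
    (hxA : x ∉ A) (hR : Nat.card ↥(Zs S ⊓ c.R hx) = p) {m : ℕ} (hm : ((Zs S).subgroupOf S).index = p ^ m)
    (h3 : 3 ≤ m) : ¬ Subgroup.lowerCentralSeries S (m - 2) ≤ Zs S := by
  intro hle
  have hp : p.Prime := Fact.out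
  haveI := finite_of_le c.le
  obtain ⟨j, rfl⟩ : ∃ j, m = j + 3 := ⟨m - 3, by omega⟩
  rw [show j + 3 - 2 = j + 1 by omega] at hle
  have hker := c.ker_d hna hx hxA
  have hone : ∀ a : A, a ∈ Ker (c.d hx) (j + 2) := fun a => by
    rw [mem_ker_iff, Function.iterate_succ_apply', ← MonoidHom.mem_ker, hker]
    exact hle (c.iterate_mem hx j a)
  have hA : Ker (c.d hx) (j + 2) = ⊤ := eq_top_iff.2 fun a _ => hone a
  haveI : Finite (Zs S) := finite_of_le (FusionAbelianIndex.Zs_le S)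
  have hkR : Nat.card ↥((c.d hx).ker ⊓ (c.d hx).range) = p := by
    refine Eq.trans ?_ hR
    rw [hker, ← Subgroup.card_map_of_injective A.subtype_injective
      (K := (Zs S).subgroupOf A ⊓ (c.d hx).range), Subgroup.map_inf _ _ _ A.subtype_injective,
      Subgroup.map_subgroupOf_eq_of_le (c.Zs_le hna)]
    rfl
  have hcard : Nat.card A ≤ Nat.card (Zs S) * p ^ (j + 1) := by
    have h1 : Nat.card (Ker (c.d hx) (j + 2)) = Nat.card A := by rw [hA, Subgroup.card_top]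
    rw [← h1, show Ker (c.d hx) (j + 2) = (Ker (c.d hx) (j + 1)).comap (c.d hx) from rfl, card_comap,
      hker, Nat.card_congr (Subgroup.subgroupOfEquivOfLe (c.Zs_le hna)).toEquiv]
    refine Nat.mul_le_mul_left _ ?_
    have h2 := card_ker_inf_range_le (c.d hx) (j + 1)
    rwa [hkR] at h2
  have h1 := (A.subgroupOf S).card_mul_index
  rw [c.index, Nat.card_congr (Subgroup.subgroupOfEquivOfLe c.le).toEquiv] at h1
  have h2 := ((Zs S).subgroupOf S).card_mul_index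
  rw [hm, Nat.card_congr (Subgroup.subgroupOfEquivOfLe (FusionAbelianIndex.Zs_le S)).toEquiv, ← h1] at h2
  have h4 : Nat.card (Zs S) * p ^ (j + 3) ≤ Nat.card (Zs S) * p ^ (j + 2) := by
    rw [h2, pow_succ p (j + 1), ← mul_assoc]
    exact Nat.mul_le_mul_right p hcard
  have h5 := (Nat.pow_le_pow_iff_right hp.one_lt).1 (Nat.le_of_mul_le_mul_left h4 Nat.card_pos)
  omega

end Cfsg.Agent.FusionAbelianIndex
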